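import Groth.Agent.Lib.Bootstrap.QFin.Global

/-!
# Bootstrapping: quotients of flat, locally finitely presented equivalence relations
-/

set_option autoImplicit false
set_option linter.style.haveILetI false

universe u

open CategoryTheory CategoryTheory.Limits AlgebraicGeometry

namespace Groth.Agent.Lib.Bootstrap

open Groth.Agent.Lib.AlgSpace
open AlgSp (IsEqvRel IsAlgSpace)

/-- The fppf quotient of a flat, lfp equivalence relation of schemes is an algebraic space. -/
theorem isAlgSpace_quot {S : Scheme.{u}} {R U : Over S} {s t : R ⟶ U} (h : IsEqvRel s t)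
    [Flat s.left] [LocallyOfFinitePresentation s.left] [Flat t.left]
    [LocallyOfFinitePresentation t.left] :
    IsAlgSpace (QuotSh.quot Scheme.fppfPrecoverage s t) := by
  obtain ⟨U', g, hfl, hlfp, hqf, hsur⟩ := exists_cover_slice h
  haveI := hfl; haveI := hlfp; haveI := hqf; haveI := hsur
  obtain ⟨R', s', t', r, k, k', ψ, h', -, -, sq₁, sq₂, -, hψ⟩ :=
    exists_restriction h g (fppfCover_mk _)
  have sqs := sq₁.map (Over.forget S)
  have sqt := sq₂.map (Over.forget S)
  haveI : Flat s'.left := MorphismProperty.of_isPullback sqs.flip hfl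
  haveI : LocallyOfFinitePresentation s'.left := MorphismProperty.of_isPullback sqs.flip hlfp
  haveI : LocallyQuasiFinite s'.left := MorphismProperty.of_isPullback sqs.flip hqf
  haveI : Flat t'.left := MorphismProperty.of_isPullback sqt.flip hfl
  haveI : LocallyOfFinitePresentation t'.left := MorphismProperty.of_isPullback sqt.flip hlfp
  exact (QFin.isAlgSpace_quot_of_lqf h').of_iso (asIso ψ)

end Groth.Agent.Lib.Bootstrap
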