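import Groth.Agent.Lib.Bootstrap.Quot
import Groth.Agent.Lib.AlgSpMor.RepBySp

/-!
# Bootstrapping: sheaves with fppf covers by algebraic spaces
-/

set_option autoImplicit false
set_option linter.style.haveILetI false

universe u

open CategoryTheory CategoryTheory.Limits AlgebraicGeometry

namespace Groth.Agent.Lib.Bootstrap

open Groth.Agent.Lib.AlgSpace
open AlgSp

variable {S : Scheme.{u}}

/-- The kernel pair of a map out of a scheme is an equivalence relation. -/
theorem isEqvRel_of_kernelPair {R W : Over S} {s t : R ⟶ W} {F : Sp S} {k : (yon S).obj W ⟶ F}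
    (sq : IsPullback ((yon S).map t) ((yon S).map s) k k) : IsEqvRel s t := by
  refine ⟨fun T r r' h1 h2 => (yon S).map_injective (sq.hom_ext
    (by rw [← Functor.map_comp, ← Functor.map_comp, h1])
    (by rw [← Functor.map_comp, ← Functor.map_comp, h2])), fun T => ?_⟩
  have key : ∀ a b : T ⟶ W, (∃ r : T ⟶ R, r ≫ t = a ∧ r ≫ s = b) ↔
      (yon S).map a ≫ k = (yon S).map b ≫ k := fun a b => by
    constructor
    · rintro ⟨r, rfl, rfl⟩
      rw [Functor.map_comp, Functor.map_comp, Category.assoc, Category.assoc, sq.w]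
    · intro e
      obtain ⟨r, hr⟩ := (yon S).map_surjective (sq.lift _ _ e)
      exact ⟨r, (yon S).map_injective (by rw [Functor.map_comp, hr, sq.lift_fst]),
        (yon S).map_injective (by rw [Functor.map_comp, hr, sq.lift_snd])⟩
  exact ⟨fun a => (key a a).2 rfl, fun hab => (key _ _).2 ((key _ _).1 hab).symm,
    fun hab hbc => (key _ _).2 (((key _ _).1 hab).trans ((key _ _).1 hbc))⟩

/-- A sheaf with a locally surjective map from a scheme whose kernel pair is flat and locally of
finite presentation is an algebraic space. -/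
theorem isAlgSpace_of_kernelPair {R W : Over S} {s t : R ⟶ W} {F : Sp S} (k : (yon S).obj W ⟶ F)
    [Sheaf.IsLocallySurjective k] (sq : IsPullback ((yon S).map t) ((yon S).map s) k k)
    [Flat s.left] [LocallyOfFinitePresentation s.left] : IsAlgSpace F := by
  have h := isEqvRel_of_kernelPair sq
  obtain ⟨i, hit, his, hii⟩ := exists_inverse h
  haveI : IsIso i.left := ⟨i.left, by rw [← Over.comp_left, hii]; rfl,
    by rw [← Over.comp_left, hii]; rfl⟩
  have ht : t.left = i.left ≫ s.left := by rw [← Over.comp_left, his]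
  haveI : Flat t.left := ht ▸ inferInstance
  haveI : LocallyOfFinitePresentation t.left := ht ▸ inferInstance
  haveI := isLocallySurjective_quotMap s t
  obtain ⟨f, hf⟩ := exists_desc (quotMap s t) (isPullback_quot h) k sq.w
  obtain ⟨g, hg⟩ := exists_desc k sq (quotMap s t) (isPullback_quot h).w
  haveI : Epi (quotMap s t) := epi_quotMap s t
  haveI : Epi k := (Sheaf.isLocallySurjective_iff_epi' (Type (u + 1)) k).1 ‹_›
  exact (isAlgSpace_quot h).of_iso ⟨f, g,
    by rw [← cancel_epi (quotMap s t), ← Category.assoc, hf, hg, Category.comp_id],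
    by rw [← cancel_epi k, ← Category.assoc, hg, hf, Category.comp_id]⟩

/-- A sheaf with an fppf cover by an algebraic space is an algebraic space. -/
theorem isAlgSpace_of_fppf_cover {X F : Sp S} (hX : IsAlgSpace X) {p : X ⟶ F}
    (hp : RepBySpWith (IsSurjectiveMor ⊓ LocP @Flat ⊓ LocP @LocallyOfFinitePresentation) p.hom) :
    IsAlgSpace F := by
  haveI := AlgSpMor.RepBySp.containsIdentities_etale.{u}
  haveI := AlgSpMor.RepBySp.isLocallySurjective_of_fppf hp
  have hd := AlgSpMor.RepBySp.representable_diag hX hp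
  obtain ⟨W, c, hc, hcs⟩ := hX.atlas
  haveI := isLocallySurjective_of_etale hc hcs
  obtain ⟨R, t, s, sq⟩ := exists_isPullback_yon hd (c ≫ p) (c ≫ p)
  obtain ⟨hP, ⟨-, hfl⟩, hfp⟩ := AlgSpMor.RepBySp.exists_chart_of_repBySpWith hp (c ≫ p)
  have sqP := IsPullback.of_hasPullback p (c ≫ p)
  let φ := sqP.lift ((yon S).map t ≫ c) ((yon S).map s) ((Category.assoc _ _ _).trans sq.w)
  have sqφ : IsPullback ((yon S).map t) φ c (pullback.fst p (c ≫ p)) := by
    refine IsPullback.of_bot ?_ (sqP.lift_fst _ _ _).symm sqP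
    rw [sqP.lift_snd]
    exact sq
  haveI : Flat s.left := hfl φ (𝟙 _) s (repWith_baseChange sqφ hc) (repWith_id _ _)
    (by rw [Category.comp_id, sqP.lift_snd])
  haveI : LocallyOfFinitePresentation s.left := hfp φ (𝟙 _) s (repWith_baseChange sqφ hc)
    (repWith_id _ _) (by rw [Category.comp_id, sqP.lift_snd])
  haveI : Sheaf.IsLocallySurjective (c ≫ p) := inferInstance
  exact isAlgSpace_of_kernelPair (c ≫ p) sq

end Groth.Agent.Lib.Bootstrap
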