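import Groth.Prelude.Def_AlgSpGpd
import Groth.Agent.Lib.Bootstrap.Cover
import Groth.Agent.Lib.DescAlg.Descends
import Groth.Agent.Lib.AlgSpace.OpenSubExists
import Mathlib.AlgebraicGeometry.Morphisms.LocalFlatDescent

/-!
# Bootstrapping: quotients of flat lfp equivalence relations of algebraic spaces
-/

set_option autoImplicit false
set_option linter.style.haveILetI false

universe u

open CategoryTheory CategoryTheory.Limits AlgebraicGeometry Opposite

namespace Groth.Agent.Lib.Bootstrap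

open Groth.Agent.Lib.AlgSpace
open AlgSp

variable {S : Scheme.{u}}

theorem isLocalAtTarget_fppf_flat :
    MorphismProperty.IsLocalAtTarget @Flat.{u} Scheme.fppfPrecoverage :=
  haveI : MorphismProperty.DescendsAlong @Flat.{u}
      (@Surjective ⊓ @Flat ⊓ @LocallyOfFinitePresentation) :=
    AlgSpMor.RepBySp.descendsAlong_fppf _ inferInstance inferInstance
  isLocalAtTarget_fppf _

theorem isLocalAtTarget_fppf_lfp :
    MorphismProperty.IsLocalAtTarget @LocallyOfFinitePresentation.{u} Scheme.fppfPrecoverage :=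
  haveI : MorphismProperty.DescendsAlong @LocallyOfFinitePresentation.{u}
      (@Surjective ⊓ @Flat ⊓ @LocallyOfFinitePresentation) :=
    AlgSpMor.RepBySp.descendsAlong_fppf _ inferInstance inferInstance
  isLocalAtTarget_fppf _

variable {R U : Sp S} {s t : R ⟶ U}

/-- A scheme chart of an equivalence relation of algebraic spaces. -/
theorem exists_scheme_relation (hR : IsAlgSpace R) (hU : IsAlgSpace U) (hj : IsEqvRelSp s t)
    (hs : LocP @Flat s ∧ LocP @LocallyOfFinitePresentation s) :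
    ∃ (U₀ R₀ : Over S) (c : (yon S).obj U₀ ⟶ U) (s₀ t₀ : R₀ ⟶ U₀) (r : (yon S).obj R₀ ⟶ R),
      RepWith @Etale c ∧ RepWith @Surjective c ∧
      Flat s₀.left ∧ LocallyOfFinitePresentation s₀.left ∧
      r ≫ t = (yon S).map t₀ ≫ c ∧ r ≫ s = (yon S).map s₀ ≫ c ∧
      (∀ (T : Over S) (l l' : T ⟶ R₀), l ≫ t₀ = l' ≫ t₀ → l ≫ s₀ = l' ≫ s₀ → l = l') ∧
      ∀ (T : Over S) (a b : T ⟶ U₀) (x : (yon S).obj T ⟶ R),
        x ≫ t = (yon S).map a ≫ c → x ≫ s = (yon S).map b ≫ c →
          ∃ l : T ⟶ R₀, l ≫ t₀ = a ∧ l ≫ s₀ = b ∧ (yon S).map l ≫ r = x := by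
  let j : R ⟶ U ⨯ U := prod.lift t s
  haveI : Mono j := mono_of_yon j fun T a b (e : a ≫ j = b ≫ j) => by
    refine hj.injective T a b ?_ ?_
    · simpa [j, prod.lift_fst] using congr($e ≫ prod.fst)
    · simpa [j, prod.lift_snd] using congr($e ≫ prod.snd)
  have hl : LocP @LocallyOfFiniteType j := by
    refine AlgSpMor.LocP.locP_of_comp (P := @LocallyOfFinitePresentation) (R := ⊤)
      SourceDescent.Scheme.locallyOfFiniteType (fun {A B C} f g hfg _ ↦ ?_) hR
      (isAlgSpace_prod hU hU) hU (g := prod.snd) (by simpa [j, prod.lift_snd] using hs.2)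
      (fun _ _ _ _ _ _ _ _ ↦ trivial)
    have : LocallyOfFinitePresentation (f ≫ g) := hfg
    exact locallyOfFiniteType_of_comp f g
  have hrj := AlgSpMor.RepBySp.repWith_sepLqf_of_mono hR (isAlgSpace_prod hU hU) hl
  obtain ⟨U₀, c, hc, hcs⟩ := hU.atlas
  obtain ⟨R₀, q, r, sq, -⟩ := repWith_exists hrj (yonProdMap c c)
  let t₀ := q ≫ prod.fst
  let s₀ := q ≫ prod.snd
  have hy₁ : ∀ {T : Over S} (v : T ⟶ U₀ ⨯ U₀),
      (yon S).map v ≫ yonProdMap c c ≫ prod.fst = (yon S).map (v ≫ prod.fst) ≫ c := fun v => by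
    simp only [yonProdMap, Category.assoc, prod.map_fst, Functor.map_comp]
    rw [← Category.assoc (yonProdIso U₀ U₀).hom, yonProdIso_hom_fst]
  have hy₂ : ∀ {T : Over S} (v : T ⟶ U₀ ⨯ U₀),
      (yon S).map v ≫ yonProdMap c c ≫ prod.snd = (yon S).map (v ≫ prod.snd) ≫ c := fun v => by
    simp only [yonProdMap, Category.assoc, prod.map_snd, Functor.map_comp]
    rw [← Category.assoc (yonProdIso U₀ U₀).hom, yonProdIso_hom_snd]
  have hrt : r ≫ t = (yon S).map t₀ ≫ c := by
    rw [← hy₁ q, ← Category.assoc ((yon S).map q), ← sq.w, Category.assoc]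
    simp [j, prod.lift_fst]
  have hrs : r ≫ s = (yon S).map s₀ ≫ c := by
    rw [← hy₂ q, ← Category.assoc ((yon S).map q), ← sq.w, Category.assoc]
    simp [j, prod.lift_snd]
  have hinj : ∀ (T : Over S) (l l' : T ⟶ R₀), l ≫ t₀ = l' ≫ t₀ → l ≫ s₀ = l' ≫ s₀ → l = l' :=
    fun T l l' h1 h2 => by
      have hq : l ≫ q = l' ≫ q := prod.hom_ext (by simpa [t₀] using h1) (by simpa [s₀] using h2)
      refine (yon S).map_injective (sq.hom_ext (hj.injective T _ _ ?_ ?_) ?_)
      · rw [Category.assoc, Category.assoc, hrt, ← Functor.map_comp_assoc, ← Functor.map_comp_assoc,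
          h1]
      · rw [Category.assoc, Category.assoc, hrs, ← Functor.map_comp_assoc, ← Functor.map_comp_assoc,
          h2]
      · rw [← Functor.map_comp, ← Functor.map_comp, hq]
        try rfl
  have hex : ∀ (T : Over S) (a b : T ⟶ U₀) (x : (yon S).obj T ⟶ R),
      x ≫ t = (yon S).map a ≫ c → x ≫ s = (yon S).map b ≫ c →
        ∃ l : T ⟶ R₀, l ≫ t₀ = a ∧ l ≫ s₀ = b ∧ (yon S).map l ≫ r = x := fun T a b x h1 h2 => by
    have w : x ≫ j = (yon S).map (prod.lift a b) ≫ yonProdMap c c := by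
      refine prod.hom_ext ?_ ?_
      · rw [Category.assoc, Category.assoc, hy₁, prod.lift_fst, prod.lift_fst]
        exact h1
      · rw [Category.assoc, Category.assoc, hy₂, prod.lift_snd, prod.lift_snd]
        exact h2
    obtain ⟨l, hl⟩ := (yon S).map_surjective (sq.lift x _ w)
    have hlq : l ≫ q = prod.lift a b :=
      (yon S).map_injective (by rw [Functor.map_comp, hl, sq.lift_snd])
    exact ⟨l, by rw [← Category.assoc, hlq, prod.lift_fst],
      by rw [← Category.assoc, hlq, prod.lift_snd], by rw [hl, sq.lift_fst]⟩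
  -- flatness of the source of the chart
  have sq₁ := IsPullback.of_hasPullback s c
  let φ := sq₁.lift r ((yon S).map s₀) hrs
  have sqφ : IsPullback ((yon S).map t₀) φ c (pullback.fst s c ≫ t) := by
    refine isPullback_of_yon ?_ (fun T l l' h1 h2 => ?_) fun T a x e => ?_
    · rw [← Category.assoc, sq₁.lift_fst, hrt]
    · obtain ⟨l, rfl⟩ := (yon S).map_surjective l
      obtain ⟨l', rfl⟩ := (yon S).map_surjective l'
      rw [hinj T l l' ((yon S).map_injective (by rwa [Functor.map_comp, Functor.map_comp]))]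
      apply (yon S).map_injective
      have := congr($h2 ≫ pullback.snd s c)
      rw [Category.assoc, Category.assoc, sq₁.lift_snd] at this
      rwa [Functor.map_comp, Functor.map_comp]
    · obtain ⟨a, rfl⟩ := (yon S).map_surjective a
      obtain ⟨b, hb⟩ := (yon S).map_surjective (x ≫ pullback.snd s c)
      obtain ⟨l, h1, h2, h3⟩ := hex T a b (x ≫ pullback.fst s c)
        (by rw [Category.assoc]; exact e.symm)
        (by rw [hb, Category.assoc, pullback.condition, Category.assoc])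
      refine ⟨(yon S).map l, by rw [← Functor.map_comp, h1], sq₁.hom_ext ?_ ?_⟩
      · rw [Category.assoc, sq₁.lift_fst, h3]
      · rw [Category.assoc, sq₁.lift_snd, ← Functor.map_comp, h2, hb]
  haveI := AlgSpMor.RepBySp.containsIdentities_etale.{u}
  have hφ : RepWith @Etale φ := repWith_baseChange sqφ hc
  haveI : Flat s₀.left :=
    AlgSpMor.LocP.locP_of_isPullback SourceDescent.Scheme.flat hR hU (IsAlgSpace.yon_obj U₀) sq₁ hs.1
      φ (𝟙 _) s₀ hφ (repWith_id _ _) (by rw [Category.comp_id, sq₁.lift_snd])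
  haveI : LocallyOfFinitePresentation s₀.left :=
    AlgSpMor.LocP.locP_of_isPullback SourceDescent.Scheme.locallyOfFinitePresentation hR hU
      (IsAlgSpace.yon_obj U₀) sq₁ hs.2 φ (𝟙 _) s₀ hφ (repWith_id _ _)
      (by rw [Category.comp_id, sq₁.lift_snd])
  exact ⟨U₀, R₀, c, s₀, t₀, r, hc, hcs, ‹_›, ‹_›, hrt, hrs, hinj, hex⟩

/-- The quotient of a flat lfp equivalence relation of algebraic spaces, with its chart. -/
theorem exists_quotSp_data (hR : IsAlgSpace R) (hU : IsAlgSpace U) (hj : IsEqvRelSp s t)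
    (hs : LocP @Flat s ∧ LocP @LocallyOfFinitePresentation s) :
    ∃ (U₀ R₀ : Over S) (c : (yon S).obj U₀ ⟶ U) (s₀ t₀ : R₀ ⟶ U₀),
      RepWith @Etale c ∧ RepWith @Surjective c ∧
      Flat s₀.left ∧ LocallyOfFinitePresentation s₀.left ∧
      Sheaf.IsLocallySurjective (c ≫ quotSpπ s t) ∧
      IsPullback t s (quotSpπ s t) (quotSpπ s t) ∧
      IsPullback ((yon S).map t₀) ((yon S).map s₀) (c ≫ quotSpπ s t) (c ≫ quotSpπ s t) ∧
      IsAlgSpace (quotSp s t) := by
  obtain ⟨U₀, R₀, c, s₀, t₀, r, hc, hcs, hfl, hfp, hrt, hrs, hinj, hex⟩ :=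
    exists_scheme_relation hR hU hj hs
  haveI := hfl; haveI := hfp
  haveI := isLocallySurjective_of_etale hc hcs
  have h₀ : IsEqvRel s₀ t₀ := by
    refine ⟨hinj, fun T => ?_⟩
    have key : ∀ a b : T ⟶ U₀, (∃ l : T ⟶ R₀, l ≫ t₀ = a ∧ l ≫ s₀ = b) ↔
        ∃ x : (yon S).obj T ⟶ R, x ≫ t = (yon S).map a ≫ c ∧ x ≫ s = (yon S).map b ≫ c := by
      intro a b
      constructor
      · rintro ⟨l, rfl, rfl⟩
        exact ⟨(yon S).map l ≫ r, by rw [Category.assoc, hrt, Functor.map_comp_assoc],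
          by rw [Category.assoc, hrs, Functor.map_comp_assoc]⟩
      · rintro ⟨x, h1, h2⟩
        obtain ⟨l, h1, h2, -⟩ := hex T a b x h1 h2
        exact ⟨l, h1, h2⟩
    exact ⟨fun a => (key a a).2 ((hj.equivalence T).refl _),
      fun h => (key _ _).2 ((hj.equivalence T).symm ((key _ _).1 h)),
      fun h h' => (key _ _).2 ((hj.equivalence T).trans ((key _ _).1 h) ((key _ _).1 h'))⟩
  let π₀ := quotMap s₀ t₀
  have sq₀ : IsPullback ((yon S).map t₀) ((yon S).map s₀) π₀ π₀ := isPullback_quot h₀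
  haveI : Sheaf.IsLocallySurjective π₀ := isLocallySurjective_quotMap s₀ t₀
  obtain ⟨D, d₁, d₂, sqD⟩ := exists_isPullback_yon hU.diag c c
  obtain ⟨g, hg⟩ := exists_desc c sqD π₀ (by
    obtain ⟨x, h1, h2⟩ := (hj.equivalence D).refl ((yon S).map d₁ ≫ c)
    obtain ⟨l, hl1, hl2, -⟩ := hex D d₁ d₂ x h1 (h2.trans sqD.w)
    rw [← hl1, ← hl2, Functor.map_comp, Functor.map_comp, Category.assoc, Category.assoc, sq₀.w])
  have hlift : ∀ {T : Over S} (a b : (yon S).obj T ⟶ U), ∃ (T₂ : Over S) (p : T₂ ⟶ T) (x y : T₂ ⟶ U₀),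
      fppfCover p.left ∧ (yon S).map x ≫ c = (yon S).map p ≫ a ∧
        (yon S).map y ≫ c = (yon S).map p ≫ b := fun {T} a b => by
    obtain ⟨T₁, p₁, x, hp₁, hx⟩ := exists_lift_of_isLocallySurjective c a
    obtain ⟨T₂, p₂, y, hp₂, hy⟩ := exists_lift_of_isLocallySurjective c ((yon S).map p₁ ≫ b)
    obtain ⟨x, rfl⟩ := (yon S).map_surjective x
    obtain ⟨y, rfl⟩ := (yon S).map_surjective y
    exact ⟨T₂, p₂ ≫ p₁, p₂ ≫ x, y, MorphismProperty.comp_mem fppfCover _ _ hp₂ hp₁,
      by simp only [Functor.map_comp, Category.assoc, hx], by simp only [Functor.map_comp,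
        Category.assoc, hy]⟩
  have hsg : s ≫ g = t ≫ g := AlgSpace.hom_ext fun T z => by
    obtain ⟨T₂, p, x, y, hp, hx, hy⟩ := hlift (z ≫ t) (z ≫ s)
    obtain ⟨l, hl1, hl2, -⟩ := hex T₂ x y ((yon S).map p ≫ z) (by rw [hx, Category.assoc])
      (by rw [hy, Category.assoc])
    haveI := epi_yon_map p hp
    rw [← cancel_epi ((yon S).map p)]
    have h1 : (yon S).map x ≫ π₀ = (yon S).map p ≫ z ≫ t ≫ g := by
      rw [← hg, reassoc_of% hx]
    have h2 : (yon S).map y ≫ π₀ = (yon S).map p ≫ z ≫ s ≫ g := by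
      rw [← hg, reassoc_of% hy]
    rw [← h1, ← h2, ← hl1, ← hl2, Functor.map_comp, Functor.map_comp, Category.assoc,
      Category.assoc, sq₀.w]
  let π := quotSpπ s t
  obtain ⟨f, hf⟩ := exists_desc π₀ sq₀ (c ≫ π) (by
    rw [← Category.assoc, ← Category.assoc, ← hrt, ← hrs, Category.assoc, Category.assoc]
    exact congrArg (r ≫ ·) (quotSp_condition s t).symm)
  let g' := quotSpDesc g hsg
  have hπg : π ≫ g' = g := quotSpπ_desc _ _ g hsg
  haveI : Epi π₀ := epi_quotMap s₀ t₀
  haveI : Epi c := (Sheaf.isLocallySurjective_iff_epi' (Type (u + 1)) c).1 ‹_›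
  haveI : Epi π := coequalizer.π_epi
  haveI : Sheaf.IsLocallySurjective π :=
    (Sheaf.isLocallySurjective_iff_epi' (Type (u + 1)) π).2 inferInstance
  have h1 : f ≫ g' = 𝟙 _ := by
    rw [← cancel_epi π₀, ← Category.assoc, hf, Category.assoc, hπg, hg, Category.comp_id]
  have h2 : g' ≫ f = 𝟙 _ := by
    rw [← cancel_epi π, ← Category.assoc, hπg, ← cancel_epi c, ← Category.assoc, hg, hf]
    exact congrArg (c ≫ ·) (Category.comp_id π).symm
  have halg : IsAlgSpace (quotSp s t) := by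
    obtain ⟨i, hit, his, hii⟩ := exists_inverse h₀
    haveI : IsIso i.left := ⟨i.left, by rw [← Over.comp_left, hii]; rfl,
      by rw [← Over.comp_left, hii]; rfl⟩
    have ht : t₀.left = i.left ≫ s₀.left := by rw [← Over.comp_left, his]
    haveI : Flat t₀.left := ht ▸ inferInstance
    haveI : LocallyOfFinitePresentation t₀.left := ht ▸ inferInstance
    exact (isAlgSpace_quot h₀).of_iso ⟨f, g', h1, h2⟩
  -- the kernel pair of the quotient
  have hker : IsPullback t s π π := by
    refine isPullback_of_yon (quotSp_condition s t).symm (fun T x x' h1 h2 => hj.injective T x x' h1 h2)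
      fun T a b e => ?_
    obtain ⟨T₂, p, x, y, hp, hx, hy⟩ := hlift a b
    obtain ⟨l, hl⟩ := (yon S).map_surjective (sq₀.lift ((yon S).map x) ((yon S).map y) (by
      rw [← hg, reassoc_of% hx, reassoc_of% hy, ← hπg, reassoc_of% e]))
    have hl1 : (yon S).map l ≫ (yon S).map t₀ = (yon S).map x := by rw [hl, sq₀.lift_fst]
    have hl2 : (yon S).map l ≫ (yon S).map s₀ = (yon S).map y := by rw [hl, sq₀.lift_snd]
    have hzt : ((yon S).map l ≫ r) ≫ t = (yon S).map p ≫ a := by
      rw [Category.assoc, hrt, reassoc_of% hl1, hx]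
    have hzs : ((yon S).map l ≫ r) ≫ s = (yon S).map p ≫ b := by
      rw [Category.assoc, hrs, reassoc_of% hl2, hy]
    haveI := isLocallySurjective_yon_map p hp
    haveI := epi_yon_map p hp
    have sqp := (IsPullback.of_hasPullback p p).map (yon S)
    obtain ⟨z, hz⟩ := exists_desc ((yon S).map p) sqp ((yon S).map l ≫ r) (hj.injective _ _ _
      (by rw [Category.assoc _ ((yon S).map l ≫ r), Category.assoc _ ((yon S).map l ≫ r), hzt,
          reassoc_of% sqp.w])
      (by rw [Category.assoc _ ((yon S).map l ≫ r), Category.assoc _ ((yon S).map l ≫ r), hzs,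
          reassoc_of% sqp.w]))
    exact ⟨z, by rw [← cancel_epi ((yon S).map p), reassoc_of% hz]; simpa using hzt,
      by rw [← cancel_epi ((yon S).map p), reassoc_of% hz]; simpa using hzs⟩
  have hk : IsPullback ((yon S).map t₀) ((yon S).map s₀) (c ≫ π) (c ≫ π) := by
    refine isPullback_of_yon ?_ (fun T l l' e1 e2 => ?_) fun T a b e => ?_
    · rw [← Category.assoc, ← Category.assoc, ← hrt, ← hrs, Category.assoc, Category.assoc, hker.w]
    · exact sq₀.hom_ext e1 e2
    · refine ⟨sq₀.lift a b ?_, sq₀.lift_fst _ _ _, sq₀.lift_snd _ _ _⟩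
      rw [← hg, ← hπg]
      simpa only [Category.assoc] using congr($e ≫ g')
  exact ⟨U₀, R₀, c, s₀, t₀, hc, hcs, hfl, hfp, inferInstance, hker, hk, halg⟩

/-- The quotient map of a flat lfp equivalence relation of algebraic spaces is fppf. -/
theorem quotSpπ_fppf (hR : IsAlgSpace R) (hU : IsAlgSpace U) (hj : IsEqvRelSp s t)
    (hs : LocP @Flat s ∧ LocP @LocallyOfFinitePresentation s) :
    IsSurjectiveMor (quotSpπ s t) ∧ LocP @Flat (quotSpπ s t) ∧
      LocP @LocallyOfFinitePresentation (quotSpπ s t) := by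
  obtain ⟨U₀, R₀, c, s₀, t₀, hc, hcs, hfl, hfp, hls, -, hk, hF⟩ := exists_quotSp_data hR hU hj hs
  let π := quotSpπ s t
  haveI : Sheaf.IsLocallySurjective π :=
    (Sheaf.isLocallySurjective_iff_epi' (Type (u + 1)) π).2 coequalizer.π_epi
  haveI := hls
  have key : ∀ (P : MorphismProperty Scheme.{u}) [P.IsStableUnderBaseChange]
      [P.IsLocalAtTarget Scheme.fppfPrecoverage],
      SourceDescent.Scheme.EtaleLocalST P → P s₀.left → LocP P π := fun P _ _ hP h₀ => by
    have hrep := hF.representable_from_yon (c ≫ π)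
    have hkP : RepWith P (c ≫ π) :=
      repWith_of_isLocallySurjective hrep (c ≫ π) hk P ((AlgSp.repWith_yon_map_iff P _).2 h₀)
    obtain ⟨V, b, hb, hbs⟩ := hF.atlas
    obtain ⟨W, p, q, sq⟩ := exists_isPullback_yon hF.diag (c ≫ π) b
    haveI : Etale p.left := repWith_property hb sq.flip
    haveI : Surjective p.left := repWith_property hbs sq.flip
    exact AlgSpMor.LocP.locP_of_chart hP hU.diag hF.diag (a := (yon S).map p ≫ c) (b := b) (h := q)
      (AlgSpMor.LocP.repWith_etale_comp p hc) (AlgSpMor.LocP.repWith_surjective_comp p hcs) hb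
      (by rw [Category.assoc]; exact sq.w) (repWith_property hkP sq)
  haveI := isLocalAtTarget_fppf_flat.{u}
  haveI := isLocalAtTarget_fppf_lfp.{u}
  exact ⟨surjective_map_of_isLocallySurjective π, key _ SourceDescent.Scheme.flat hfl,
    key _ SourceDescent.Scheme.locallyOfFinitePresentation hfp⟩

end Groth.Agent.Lib.Bootstrap
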