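import Groth.Prelude.Def_AlgSpCov
import Groth.Agent.Lib.Bootstrap.Cover
import Groth.Agent.Lib.AlgSpace.Coprod
import Groth.Agent.Lib.AlgSpace.OpenSubExists

/-!
# Bootstrapping: being an algebraic space is fppf local on the base
-/

set_option autoImplicit false
set_option linter.style.haveILetI false

universe u

open CategoryTheory CategoryTheory.Limits AlgebraicGeometry Opposite

namespace Groth.Agent.Lib.Bootstrap

open Groth.Agent.Lib.AlgSpace
open AlgSp

variable {S : Scheme.{u}} {ι : Type u} {F X : Sp S} {Xi Y : ι → Sp S}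

/-- Coproducts of sheaves are universal. -/
theorem exists_iso_pullback_cofan {c : Cofan Xi} (hc : IsColimit c) {d : Cofan Y} (hd : IsColimit d)
    {p : F ⟶ X} {G : c.pt ⟶ X} {yf : ∀ i, Y i ⟶ F} {yg : ∀ i, Y i ⟶ Xi i}
    (sq : ∀ i, IsPullback (yf i) (yg i) p (c.inj i ≫ G)) :
    Nonempty (d.pt ≅ pullback p G) := by
  let ψ : d.pt ⟶ pullback p G := Cofan.IsColimit.desc hd fun i =>
    pullback.lift (yf i) (yg i ≫ c.inj i) (by rw [Category.assoc, (sq i).w])
  have hψ₁ : ∀ i, d.inj i ≫ ψ ≫ pullback.fst p G = yf i := fun i => by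
    rw [Cofan.IsColimit.fac_assoc, pullback.lift_fst]
  have hψ₂ : ∀ i, d.inj i ≫ ψ ≫ pullback.snd p G = yg i ≫ c.inj i := fun i => by
    rw [Cofan.IsColimit.fac_assoc, pullback.lift_snd]
  have hfam : ∀ {κ : Type u} {T : Over S} (V : κ → Over S) (u : ∀ i, V i ⟶ T),
      (∀ i, IsOpenImmersion (u i).left ∧ IsClosedImmersion (u i).left) →
      (∀ t : ↥T.left, ∃ i y, (u i).left y = t) → Sieve.ofArrows V u ∈ AlgSp.J S T :=
    fun V u hu hcov => ofArrows_mem_J _ _ (fun i ↦ have := (hu i).1; inferInstance)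
      (fun i ↦ have := (hu i).1; inferInstance) hcov
  haveI : Mono ψ := mono_of_yon ψ fun T a b (e : a ≫ ψ = b ≫ ψ) => by
    obtain ⟨V, u, x, hu, hcov, hx, -⟩ := exists_decomposition hd a
    refine hom_ext_of_family V u (hfam V u hu hcov) fun i => ?_
    obtain ⟨V', u', x', hu', hcov', hx', -⟩ := exists_decomposition hd ((yon S).map (u i) ≫ b)
    refine hom_ext_of_family V' u' (hfam V' u' hu' hcov') fun j => ?_
    rw [← hx i, ← hx' j]
    have e' : ((yon S).map (u' j) ≫ x i) ≫ d.inj i ≫ ψ = x' j ≫ d.inj j ≫ ψ := by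
      rw [← Category.assoc, ← Category.assoc (x' j), Category.assoc ((yon S).map (u' j)), hx i, hx' j]
      simp only [Category.assoc, e]
    have e1 : ((yon S).map (u' j) ≫ x i) ≫ yf i = x' j ≫ yf j := by
      have := congr($e' ≫ pullback.fst p G)
      simpa only [Category.assoc, hψ₁] using this
    have e2 : ((yon S).map (u' j) ≫ x i ≫ yg i) ≫ c.inj i = (x' j ≫ yg j) ≫ c.inj j := by
      have := congr($e' ≫ pullback.snd p G)
      simpa only [Category.assoc, hψ₂] using this
    by_cases hij : i = j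
    · subst hij
      haveI := mono_inj hc i
      have e3 : (yon S).map (u' i) ≫ x i = x' i := (sq i).hom_ext e1
        (by rw [Category.assoc]; exact (cancel_mono (c.inj i)).1 e2)
      rw [← Category.assoc, e3]
    · haveI := isEmpty_of_inj_eq hc _ _ e2 hij
      exact (subsingleton_yon_hom_of_isEmpty _ _).elim _ _
  haveI : Sheaf.IsLocallySurjective ψ := isLocallySurjective_of_lift ψ fun T b => by
    obtain ⟨V, u, x, hu, hcov, hx, -⟩ := exists_decomposition hc (b ≫ pullback.snd p G)
    obtain ⟨π, hπ⟩ := exists_sigmaOver_desc u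
    have hy : ∀ i, ∃ y : (yon S).obj (V i) ⟶ Y i, y ≫ d.inj i ≫ ψ = (yon S).map (u i) ≫ b :=
      fun i => by
        refine ⟨(sq i).lift ((yon S).map (u i) ≫ b ≫ pullback.fst p G) (x i) ?_, ?_⟩
        · rw [reassoc_of% (hx i)]
          simp only [Category.assoc, pullback.condition]
        · apply pullback.hom_ext
          · simp only [Category.assoc, hψ₁, IsPullback.lift_fst]
          · simp only [Category.assoc, hψ₂]
            rw [IsPullback.lift_snd_assoc, hx i]
    choose y hy using hy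
    obtain ⟨a, ha, -⟩ := existsUnique_sigmaOver_desc V fun i => y i ≫ d.inj i
    have hπl : π.left = Sigma.desc fun i => (u i).left := Sigma.hom_ext _ _ fun i => by
      rw [Sigma.ι_desc]; exact congr($(hπ i).left)
    haveI : Etale π.left := hπl ▸ IsZariskiLocalAtSource.sigmaDesc (P := @Etale)
      fun i => haveI := (hu i).1; inferInstance
    haveI : Surjective π.left := ⟨fun t => by
      obtain ⟨i, z, rfl⟩ := hcov t
      exact ⟨(sigmaOverι V i).left z, by rw [← Scheme.Hom.comp_apply, ← Over.comp_left, hπ i]⟩⟩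
    refine ⟨sigmaOver V, π, a, fppfCover_mk π.left,
      hom_ext_of_family V _ (sigmaOverι_mem_J V) fun i => ?_⟩
    rw [reassoc_of% (ha i), hy i, ← Functor.map_comp_assoc, hπ i]
  haveI : Epi ψ := (Sheaf.isLocallySurjective_iff_epi' (Type (u + 1)) ψ).1 inferInstance
  obtain ⟨l, hl⟩ := exists_desc ψ (IsKernelPair.id_of_mono ψ) (𝟙 _) rfl
  exact ⟨⟨ψ, l, hl, by rw [← cancel_epi ψ, reassoc_of% hl, Category.comp_id]⟩⟩

/-- A map out of a coproduct has an etale local property if the components do. -/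
theorem locP_of_cofan {P : MorphismProperty Scheme.{u}} [IsZariskiLocalAtSource P] {c : Cofan Xi}
    (hc : IsColimit c) (hXi : ∀ i, IsAlgSpace (Xi i)) {G : c.pt ⟶ X}
    (hP : ∀ i, LocP P (c.inj i ≫ G)) : LocP P G := by
  intro A V a b h ha hb w
  obtain ⟨W, u, x, hu, hcov, hx, -⟩ := exists_decomposition hc a
  obtain ⟨π, hπ⟩ := exists_sigmaOver_desc u
  refine IsZariskiLocalAtSource.of_openCover (P := P)
    (Scheme.Cover.mkOfCovers ι (fun i => (W i).left) (fun i => (u i).left) hcov
      fun i => (hu i).1) fun i => ?_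
  haveI := (hu i).1
  haveI : Etale (u i).left := inferInstance
  have hxe : RepWith @Etale (x i) :=
    AlgSpMor.Proper.repWith_etale_of_comp (hXi i).diag
      (repWith_mono (repWith_isOpenImmersion_inj hc i)
        fun _ _ f (_ : IsOpenImmersion f) => (inferInstance : Etale f))
      (by rw [hx i]; exact AlgSpMor.LocP.repWith_etale_comp (u i) ha)
  exact hP i (x i) b (u i ≫ h) hxe hb (by rw [reassoc_of% (hx i), w, Functor.map_comp, Category.assoc])

/-- Being an algebraic space can be checked after an fppf base change. -/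
theorem isAlgSpace_of_fppf_baseChange {Xc P : Sp S} (hX : IsAlgSpace X) (hXc : IsAlgSpace Xc)
    {g : Xc ⟶ X} (hsur : Function.Surjective (Points.map g)) (hfl : LocP @Flat g)
    (hfp : LocP @LocallyOfFinitePresentation g) {p : F ⟶ X} {fst : P ⟶ F} {snd : P ⟶ Xc}
    (sq : IsPullback fst snd p g) (hP : IsAlgSpace P) : IsAlgSpace F := by
  refine isAlgSpace_of_fppf_cover hP (p := fst) ((repBySpWith_hom_iff _ fst).2 fun T ξ Q q₁ q₂ sqQ => ?_)
  have sqT : IsPullback (q₁ ≫ snd) q₂ g (ξ ≫ p) := sqQ.paste_horiz sq.flip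
  refine ⟨isAlgSpace_of_isPullback sqT hX.diag hXc (IsAlgSpace.yon_obj T), ⟨?_, ?_⟩, ?_⟩
  · intro y
    obtain ⟨x, hx⟩ := hsur (Points.map (ξ ≫ p) y)
    obtain ⟨z, -, hz⟩ := exists_of_isPullback sqT x y hx
    exact ⟨z, hz⟩
  · exact AlgSpMor.LocP.locP_of_isPullback SourceDescent.Scheme.flat hXc hX (IsAlgSpace.yon_obj T)
      sqT hfl
  · exact AlgSpMor.LocP.locP_of_isPullback SourceDescent.Scheme.locallyOfFinitePresentation hXc hX
      (IsAlgSpace.yon_obj T) sqT hfp

/-- Being an algebraic space is local for fppf coverings. -/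
theorem isAlgSpace_of_fppfCover_family (hX : IsAlgSpace X) (hXi : ∀ i, IsAlgSpace (Xi i))
    {g : ∀ i, Xi i ⟶ X} (hcov : IsFppfCover Xi g) (p : F ⟶ X)
    (h : ∀ i, IsAlgSpace (pullback p (g i))) : IsAlgSpace F := by
  let c : Cofan Xi := Cofan.mk (∐ Xi) (Sigma.ι Xi)
  have hc : IsColimit c := coproductIsCoproduct Xi
  let G : c.pt ⟶ X := Cofan.IsColimit.desc hc g
  have hG : ∀ i, c.inj i ≫ G = g i := fun i => Cofan.IsColimit.fac hc g i
  let Y : ι → Sp S := fun i => pullback p (g i)
  let d : Cofan Y := Cofan.mk (∐ Y) (Sigma.ι Y)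
  have hd : IsColimit d := coproductIsCoproduct Y
  obtain ⟨e⟩ := exists_iso_pullback_cofan hc hd (p := p) (G := G)
    (yf := fun i => pullback.fst p (g i)) (yg := fun i => pullback.snd p (g i))
    fun i => by rw [hG]; exact IsPullback.of_hasPullback p (g i)
  refine isAlgSpace_of_fppf_baseChange hX (isAlgSpace_cofan_pt hc hXi) (g := G) (fun x => ?_)
    (locP_of_cofan hc hXi fun i => by rw [hG]; exact (hcov.1 i).1)
    (locP_of_cofan hc hXi fun i => by rw [hG]; exact (hcov.1 i).2)
    (IsPullback.of_hasPullback p G) ((isAlgSpace_cofan_pt hd h).of_iso e)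
  obtain ⟨i, y, rfl⟩ := hcov.2 x
  exact ⟨Points.map (c.inj i) y, by rw [← Points.map_comp, hG]⟩

end Groth.Agent.Lib.Bootstrap
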