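import Groth.Agent.Lib.Bootstrap.SliceLocal
import Groth.Agent.Lib.AlgSpace.Quot

/-!
# Artin's slice: reduction of a flat lfp relation to a locally quasi-finite one
-/

set_option autoImplicit false
set_option linter.style.haveILetI false

universe u

open CategoryTheory CategoryTheory.Limits AlgebraicGeometry

namespace Groth.Agent.Lib.Bootstrap

open Groth.Agent.Lib.AlgSpace
open AlgSp (Sp yon IsEqvRel)

attribute [local simp] prod.lift_fst prod.lift_snd pullback.lift_fst pullback.lift_snd pullback.lift_fst_assoc pullback.lift_snd_assoc prod.lift_fst_assoc prod.lift_snd_assoc prod.map_fst prod.map_snd prod.map_fst_assoc prod.map_snd_assoc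

variable {S : Scheme.{u}} {R U : Over S} {s t : R ⟶ U}

theorem mono_pullbackLift (h : IsEqvRel s t) :
    Mono (pullback.lift s.left t.left (by rw [Over.w, Over.w]) : R.left ⟶ pullback U.hom U.hom) := by
  refine ⟨fun {T} a b e => ?_⟩
  have hs : a ≫ s.left = b ≫ s.left := by simpa using congr($e ≫ pullback.fst _ _)
  have ht : a ≫ t.left = b ≫ t.left := by simpa using congr($e ≫ pullback.snd _ _)
  have hw : b ≫ R.hom = a ≫ R.hom := by rw [← Over.w s, reassoc_of% hs]
  exact congr($(h.injective (Over.mk (a ≫ R.hom)) (Over.homMk a) (Over.homMk b hw)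
    (Over.OverMorphism.ext ht) (Over.OverMorphism.ext hs)).left)

/-- The identity section of an equivalence relation. -/
theorem exists_unit (h : IsEqvRel s t) : ∃ e : U ⟶ R, e ≫ t = 𝟙 U ∧ e ≫ s = 𝟙 U :=
  (h.equivalence U).refl (𝟙 U)

theorem exists_inverse (h : IsEqvRel s t) : ∃ i : R ⟶ R, i ≫ t = s ∧ i ≫ s = t ∧ i ≫ i = 𝟙 R := by
  obtain ⟨i, hit, his⟩ := (h.equivalence R).symm ⟨𝟙 R, Category.id_comp t, Category.id_comp s⟩
  refine ⟨i, hit, his, h.injective R _ _ ?_ ?_⟩ <;> simp [Category.assoc, hit, his]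

theorem exists_comp (h : IsEqvRel s t) {T : Over S} (a b : T ⟶ R) (hab : a ≫ s = b ≫ t) :
    ∃ c : T ⟶ R, c ≫ t = a ≫ t ∧ c ≫ s = b ≫ s :=
  (h.equivalence T).trans ⟨a, rfl, hab⟩ ⟨b, rfl, rfl⟩

theorem lfp_pullback_comp [LocallyOfFinitePresentation s.left] {U' : Over S} (g : U' ⟶ U)
    [LocallyOfFinitePresentation g.left] :
    LocallyOfFinitePresentation (pullback.snd g t ≫ s).left := by
  have : LocallyOfFinitePresentation (pullback.snd g t).left :=
    MorphismProperty.of_isPullback ((IsPullback.of_hasPullback g t).map (Over.forget S))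
      ‹LocallyOfFinitePresentation g.left›
  exact inferInstanceAs (LocallyOfFinitePresentation ((pullback.snd g t).left ≫ s.left))

/-- Goodness of `U' ×_U R ⟶ U` at a point depends only on the image in `U'`. -/
theorem good_iff_good_section (h : IsEqvRel s t) [Flat s.left] [LocallyOfFinitePresentation s.left]
    [Flat t.left] {U' : Over S} (g : U' ⟶ U) [LocallyOfFinitePresentation g.left]
    (e : U ⟶ R) (het : e ≫ t = 𝟙 U) (hes : e ≫ s = 𝟙 U) (x : (pullback g t).left) :
    Good (pullback.snd g t ≫ s).left x ↔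
      Good (pullback.snd g t ≫ s).left
        ((pullback.fst g t ≫ pullback.lift (𝟙 U') (g ≫ e) (by simp [het])).left x) := by
  let σ : U' ⟶ pullback g t := pullback.lift (𝟙 U') (g ≫ e) (by simp [het])
  have := lfp_pullback_comp (s := s) (t := t) g
  let hX := pullback.snd g t ≫ s
  obtain ⟨i, hit, his, -⟩ := exists_inverse h
  -- `ζ (a, r) = ((a, e), r)`
  let ζ : pullback g t ⟶ pullback hX t := pullback.lift (pullback.fst g t ≫ σ) (pullback.snd g t) (by
    simp only [σ, hX, Category.assoc, pullback.lift_snd_assoc, hes, Category.comp_id]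
    exact pullback.condition)
  obtain ⟨r₃, hr₃t, hr₃s⟩ := exists_comp h (pullback.fst hX t ≫ pullback.snd g t) (pullback.snd hX t)
    (by simpa [hX] using pullback.condition (f := hX) (g := t))
  obtain ⟨r₁, hr₁t, hr₁s⟩ := exists_comp h (pullback.fst hX s ≫ pullback.snd g t)
    (pullback.snd hX s ≫ i) (by simpa [hX, hit] using pullback.condition (f := hX) (g := s))
  let Θ : pullback hX t ⟶ pullback hX s :=
    pullback.lift (pullback.lift (pullback.fst hX t ≫ pullback.fst g t) r₃ (by
      simp [hr₃t, pullback.condition])) (pullback.snd hX t) (by simp [hX, hr₃s])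
  let Θ' : pullback hX s ⟶ pullback hX t :=
    pullback.lift (pullback.lift (pullback.fst hX s ≫ pullback.fst g t) r₁ (by
      simp [hr₁t, pullback.condition])) (pullback.snd hX s) (by simp [hX, hr₁s, his])
  have hrt : pullback.fst hX t ≫ pullback.snd g t ≫ s = pullback.snd hX t ≫ t :=
    pullback.condition
  have hrs : pullback.fst hX s ≫ pullback.snd g t ≫ s = pullback.snd hX s ≫ s :=
    pullback.condition
  have h1 : Θ ≫ Θ' = 𝟙 _ := by
    apply pullback.hom_ext
    · apply pullback.hom_ext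
      · simp [Θ, Θ']
      · refine h.injective _ _ _ ?_ ?_ <;>
          simp [Θ, Θ', hr₁t, hr₁s, hr₃t, his, hrt]
    · simp [Θ, Θ']
  have h2 : Θ' ≫ Θ = 𝟙 _ := by
    apply pullback.hom_ext
    · apply pullback.hom_ext
      · simp [Θ, Θ']
      · refine h.injective _ _ _ ?_ ?_ <;>
          simp [Θ, Θ', hr₁t, hr₃t, hr₃s, hrs]
    · simp [Θ, Θ']
  have h3 : ζ ≫ Θ ≫ pullback.fst hX s = 𝟙 _ := by
    apply pullback.hom_ext
    · simp [ζ, Θ, σ]
    · refine h.injective _ _ _ ?_ ?_ <;>
        simp [ζ, Θ, σ, hr₃t, hr₃s, het, pullback.condition]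
  let Φ : pullback hX t ≅ pullback hX s := ⟨Θ, Θ', h1, h2⟩
  have : IsIso Θ.left := ((Over.forget S).mapIso Φ).isIso_hom
  have sqt := (IsPullback.of_hasPullback hX t).map (Over.forget S)
  have sqs := (IsPullback.of_hasPullback hX s).map (Over.forget S)
  have hx : (pullback.fst hX s).left (Θ.left (ζ.left x)) = x := by
    rw [← Scheme.Hom.comp_apply, ← Scheme.Hom.comp_apply, ← Over.comp_left, ← Over.comp_left, h3]
    simp
  have hσ : (pullback.fst hX t).left (ζ.left x) = (pullback.fst g t ≫ σ).left x := by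
    rw [← Scheme.Hom.comp_apply, ← Over.comp_left, pullback.lift_fst]
  have : LocallyOfFinitePresentation ((Over.forget S).map hX) := ‹_›
  have : Flat ((Over.forget S).map t) := ‹Flat t.left›
  have : Flat ((Over.forget S).map s) := ‹Flat s.left›
  have e1 : Good (pullback.snd hX t).left (ζ.left x) ↔ Good hX.left ((pullback.fst g t ≫ σ).left x) := by
    rw [← hσ]
    exact good_iff_of_isPullback sqt (ζ.left x)
  have e2 : Good (pullback.snd hX s).left (Θ.left (ζ.left x)) ↔ Good hX.left x := by
    conv_rhs => rw [← hx]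
    exact good_iff_of_isPullback sqs (Θ.left (ζ.left x))
  have e3 : (pullback.snd hX t).left = Θ.left ≫ (pullback.snd hX s).left := by
    rw [← Over.comp_left, pullback.lift_snd]
  rw [← e2, ← e1, e3, good_comp_iff_of_isOpenImmersion]

/-- Through each point there is a slice along which the relation becomes flat and quasi-finite. -/
theorem exists_slice_good (h : IsEqvRel s t) [Flat s.left] [LocallyOfFinitePresentation s.left]
    [Flat t.left] (u : U.left) :
    ∃ (U' : Over S) (g : U' ⟶ U) (_ : LocallyOfFinitePresentation g.left),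
      (∀ x, Good (pullback.snd g t ≫ s).left x) ∧ u ∈ Set.range (pullback.snd g t ≫ s).left := by
  obtain ⟨e, het, hes⟩ := exists_unit h
  have hcomp : s.left ≫ U.hom = t.left ≫ U.hom := by rw [Over.w, Over.w]
  haveI := mono_pullbackLift h
  have hr : s.left (e.left u) = u ∧ t.left (e.left u) = u := by
    rw [← Scheme.Hom.comp_apply, ← Scheme.Hom.comp_apply, ← Over.comp_left, ← Over.comp_left, hes, het]
    exact ⟨rfl, rfl⟩
  obtain ⟨U₁, g₁, hg₁, x₁, hx₁, hx₁u⟩ :=
    exists_slice U.hom s.left t.left hcomp inferInstance (e.left u) (hr.1.trans hr.2.symm)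
  let U' : Over S := Over.mk (g₁ ≫ U.hom)
  let g : U' ⟶ U := Over.homMk g₁
  have : LocallyOfFinitePresentation g.left := hg₁
  have := lfp_pullback_comp (s := s) (t := t) g
  have sq := (IsPullback.of_hasPullback g t).map (Over.forget S)
  let Φ := sq.isoPullback
  obtain ⟨x, rfl⟩ : ∃ x, Φ.hom x = x₁ := ⟨Φ.inv x₁, by rw [← Scheme.Hom.comp_apply, Iso.inv_hom_id]; rfl⟩
  have hΦ : Φ.hom ≫ pullback.snd g₁ t.left ≫ s.left = (pullback.snd g t ≫ s).left := by
    rw [Over.comp_left]
    exact (Category.assoc _ _ _).symm.trans (congrArg (· ≫ s.left) sq.isoPullback_hom_snd)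
  have hgx : Good (pullback.snd g t ≫ s).left x := by
    rw [← hΦ]
    exact (good_comp_iff_of_isOpenImmersion _ _ _).2 hx₁
  have hxu : (pullback.snd g t ≫ s).left x = u := by
    rw [← hΦ]
    exact hx₁u.trans hr.1
  let σ : U' ⟶ pullback g t := pullback.lift (𝟙 U') (g ≫ e) (by simp [het])
  let O : U'.left.Opens := σ.left ⁻¹ᵁ locus (pullback.snd g t ≫ s).left
  let U'' : Over S := Over.mk (O.ι ≫ U'.hom)
  let j : U'' ⟶ U' := Over.homMk O.ι
  have : IsOpenImmersion j.left := inferInstanceAs (IsOpenImmersion O.ι)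
  have : LocallyOfFinitePresentation (j ≫ g).left :=
    inferInstanceAs (LocallyOfFinitePresentation (O.ι ≫ g₁))
  let k : pullback (j ≫ g) t ⟶ pullback g t :=
    pullback.lift (pullback.fst (j ≫ g) t ≫ j) (pullback.snd (j ≫ g) t) (by simp [pullback.condition])
  have sqk : IsPullback k (pullback.fst (j ≫ g) t) (pullback.fst g t) j :=
    IsPullback.of_right (by rw [pullback.lift_snd]; exact (IsPullback.of_hasPullback (j ≫ g) t).flip)
      (by simp [k]) (IsPullback.of_hasPullback g t).flip
  have sqk' := sqk.map (Over.forget S)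
  have : IsOpenImmersion k.left :=
    MorphismProperty.of_isPullback sqk'.flip ‹IsOpenImmersion j.left›
  have hk : (pullback.snd (j ≫ g) t ≫ s).left = k.left ≫ (pullback.snd g t ≫ s).left := by
    rw [← Over.comp_left, pullback.lift_snd_assoc]
  refine ⟨U'', j ≫ g, inferInstance, fun y => ?_, ?_⟩
  · rw [hk, good_comp_iff_of_isOpenImmersion, good_iff_good_section h g e het hes]
    have hy : (pullback.fst g t).left (k.left y) = j.left ((pullback.fst (j ≫ g) t).left y) := by
      rw [← Scheme.Hom.comp_apply, ← Over.comp_left, pullback.lift_fst]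
      rfl
    change σ.left ((pullback.fst g t).left (k.left y)) ∈ locus (pullback.snd g t ≫ s).left
    rw [hy]
    exact ((pullback.fst (j ≫ g) t).left y).2
  · have hxO : (pullback.fst g t).left x ∈ O := (good_iff_good_section h g e het hes x).1 hgx
    obtain ⟨y, hy, -⟩ := Scheme.exists_preimage_of_isPullback sqk'
      x (⟨_, hxO⟩ : O.toScheme) rfl
    refine ⟨y, ?_⟩
    rw [hk, Scheme.Hom.comp_apply, show k.left y = x from hy, hxu]

/-- A flat, locally quasi-finite, surjective slice. -/
theorem exists_cover_slice (h : IsEqvRel s t) [Flat s.left] [LocallyOfFinitePresentation s.left]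
    [Flat t.left] :
    ∃ (U' : Over S) (g : U' ⟶ U), Flat (pullback.snd g t ≫ s).left ∧
      LocallyOfFinitePresentation (pullback.snd g t ≫ s).left ∧
      LocallyQuasiFinite (pullback.snd g t ≫ s).left ∧ Surjective (pullback.snd g t ≫ s).left := by
  choose U₁ g₁ hg₁ hgood hu using fun u : U.left => exists_slice_good h u
  let U' : Over S := Over.mk (Sigma.desc fun u => (U₁ u).hom)
  let g : U' ⟶ U := Over.homMk (Sigma.desc fun u => (g₁ u).left) (Sigma.hom_ext _ _ fun u => by simp [U'])
  let j : ∀ u, U₁ u ⟶ U' := fun u =>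
    Over.homMk (Sigma.ι (fun u => (U₁ u).left) u) (Sigma.ι_desc _ _)
  have hjg : ∀ u, j u ≫ g = g₁ u := fun u => Over.OverMorphism.ext (Sigma.ι_desc _ _)
  have : LocallyOfFinitePresentation g.left :=
    IsZariskiLocalAtSource.sigmaDesc (P := @LocallyOfFinitePresentation) hg₁
  have hlfp := lfp_pullback_comp (s := s) (t := t) g
  let k : ∀ u, pullback (g₁ u) t ⟶ pullback g t := fun u =>
    pullback.lift (pullback.fst (g₁ u) t ≫ j u) (pullback.snd (g₁ u) t) (by
      simp [hjg, pullback.condition])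
  have hk : ∀ u, (pullback.snd (g₁ u) t ≫ s).left = (k u).left ≫ (pullback.snd g t ≫ s).left := fun u => by
    rw [← Over.comp_left, pullback.lift_snd_assoc]
  have sqk : ∀ u, IsPullback (k u).left (pullback.fst (g₁ u) t).left (pullback.fst g t).left (j u).left :=
    fun u => by
      have h1 : IsPullback (k u) (pullback.fst (g₁ u) t) (pullback.fst g t) (j u) :=
        IsPullback.of_right
          (by rw [pullback.lift_snd, hjg]; exact (IsPullback.of_hasPullback (g₁ u) t).flip)
          (by simp [k]) (IsPullback.of_hasPullback g t).flip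
      exact h1.map (Over.forget S)
  have hko : ∀ u, IsOpenImmersion (k u).left := fun u =>
    MorphismProperty.of_isPullback (sqk u).flip
      (inferInstanceAs (IsOpenImmersion (Sigma.ι (fun u => (U₁ u).left) u)))
  have hgd : ∀ x, Good (pullback.snd g t ≫ s).left x := fun x => by
    obtain ⟨u, a, ha⟩ := (sigmaOpenCover fun u => (U₁ u).left).exists_eq ((pullback.fst g t).left x)
    obtain ⟨y, hy, -⟩ := Scheme.exists_preimage_of_isPullback (sqk u) x a ha.symm
    have := hgood u y
    rw [hk u, good_comp_iff_of_isOpenImmersion, hy] at this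
    exact this
  obtain ⟨hfl, hqf⟩ := flat_lqf_of_forall_good _ hgd
  refine ⟨U', g, hfl, hlfp, hqf, ⟨fun u => ?_⟩⟩
  obtain ⟨y, hy⟩ := hu u
  exact ⟨(k u).left y, by rw [← Scheme.Hom.comp_apply, ← hk u, hy]⟩

/-- Restricting along a slice does not change the quotient sheaf. -/
theorem exists_restriction (h : IsEqvRel s t) {U' : Over S} (g : U' ⟶ U)
    (hg : fppfCover (pullback.snd g t ≫ s).left) :
    ∃ (R' : Over S) (s' t' : R' ⟶ U') (r : R' ⟶ R)
      (k k' : R' ⟶ pullback g t)
      (ψ : QuotSh.quot Scheme.fppfPrecoverage s' t' ⟶ QuotSh.quot Scheme.fppfPrecoverage s t),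
      IsEqvRel s' t' ∧ r ≫ s = s' ≫ g ∧ r ≫ t = t' ≫ g ∧
      IsPullback s' k g (pullback.snd g t ≫ s) ∧ IsPullback t' k' g (pullback.snd g t ≫ s) ∧
      QuotSh.quotπ Scheme.fppfPrecoverage s' t' ≫ ψ =
        QuotSh.repMap Scheme.fppfPrecoverage g ≫ QuotSh.quotπ Scheme.fppfPrecoverage s t ∧ IsIso ψ := by
  obtain ⟨i, hit, his, hii⟩ := exists_inverse h
  let R' := pullback (prod.map g g) (prod.lift t s)
  let r : R' ⟶ R := pullback.snd _ _
  let t' : R' ⟶ U' := pullback.fst (prod.map g g) (prod.lift t s) ≫ prod.fst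
  let s' : R' ⟶ U' := pullback.fst (prod.map g g) (prod.lift t s) ≫ prod.snd
  have hc := pullback.condition (f := prod.map g g) (g := prod.lift t s)
  have hrt : r ≫ t = t' ≫ g := by
    have := congr($hc ≫ prod.fst)
    simpa [r, t'] using this.symm
  have hrs : r ≫ s = s' ≫ g := by
    have := congr($hc ≫ prod.snd)
    simpa [r, s'] using this.symm
  have hext : ∀ {T : Over S} (x y : T ⟶ R'), x ≫ t' = y ≫ t' → x ≫ s' = y ≫ s' → x = y := fun x y h1 h2 =>
    pullback.hom_ext (prod.hom_ext (by simpa [t'] using h1) (by simpa [s'] using h2))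
      (h.injective _ _ _
        (by rw [Category.assoc, Category.assoc, hrt, reassoc_of% h1])
        (by rw [Category.assoc, Category.assoc, hrs, reassoc_of% h2]))
  have hex : ∀ {T : Over S} (a b : T ⟶ U') (c : T ⟶ R), c ≫ t = a ≫ g → c ≫ s = b ≫ g →
      ∃ x : T ⟶ R', x ≫ t' = a ∧ x ≫ s' = b ∧ x ≫ r = c := fun a b c h1 h2 =>
    ⟨pullback.lift (prod.lift a b) c (by ext <;> simp [h1, h2]), by simp [t'], by simp [s'], by simp [r]⟩
  have heq : IsEqvRel s' t' := by
    refine ⟨fun T x y => hext x y, fun T => ⟨fun a => ?_, fun {a b} => ?_, fun {a b c} => ?_⟩⟩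
    · obtain ⟨z, hz1, hz2⟩ := (h.equivalence T).refl (a ≫ g)
      obtain ⟨x, hx1, hx2, -⟩ := hex a a z hz1 hz2
      exact ⟨x, hx1, hx2⟩
    · rintro ⟨x, rfl, rfl⟩
      obtain ⟨y, hy1, hy2, -⟩ := hex (x ≫ s') (x ≫ t') (x ≫ r ≫ i)
        (by simp [hit, hrs]) (by simp [his, hrt])
      exact ⟨y, hy1, hy2⟩
    · rintro ⟨x, rfl, rfl⟩ ⟨y, hy1, rfl⟩
      obtain ⟨z, hz1, hz2⟩ := exists_comp h (x ≫ r) (y ≫ r) (by
        rw [Category.assoc, Category.assoc, hrs, hrt, reassoc_of% hy1])
      obtain ⟨w, hw1, hw2, -⟩ := hex (x ≫ t') (y ≫ s') z (by simp [hz1, hrt]) (by simp [hz2, hrs])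
      exact ⟨w, hw1, hw2⟩
  let k : R' ⟶ pullback g t := pullback.lift t' r hrt.symm
  let k' : R' ⟶ pullback g t := pullback.lift s' (r ≫ i) (by simp [hit, hrs])
  have sqk : IsPullback s' k g (pullback.snd g t ≫ s) := by
    have hl : ∀ c : PullbackCone g (pullback.snd g t ≫ s), ∃ x : c.pt ⟶ R',
        x ≫ t' = c.snd ≫ pullback.fst g t ∧ x ≫ s' = c.fst ∧ x ≫ r = c.snd ≫ pullback.snd g t :=
      fun c => hex _ _ _ (by simp [pullback.condition]) (by simpa using c.condition.symm)
    choose x hx1 hx2 hx3 using hl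
    refine IsPullback.of_isLimit' ⟨by simp [k, hrs]⟩ (PullbackCone.IsLimit.mk _ x hx2
      (fun c => pullback.hom_ext (by simp [k, hx1]) (by simp [k, hx3])) fun c y h1 h2 => hext _ _ ?_ ?_)
    · rw [hx1 c, ← h2]; simp [k]
    · rw [hx2 c, h1]
  have sqk' : IsPullback t' k' g (pullback.snd g t ≫ s) := by
    have hl : ∀ c : PullbackCone g (pullback.snd g t ≫ s), ∃ x : c.pt ⟶ R',
        x ≫ t' = c.fst ∧ x ≫ s' = c.snd ≫ pullback.fst g t ∧ x ≫ r = c.snd ≫ pullback.snd g t ≫ i :=
      fun c => hex _ _ _ (by simpa [hit] using c.condition.symm) (by simp [his, pullback.condition])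
    choose x hx1 hx2 hx3 using hl
    refine IsPullback.of_isLimit' ⟨by simp [k', his, hrt]⟩ (PullbackCone.IsLimit.mk _ x hx1
      (fun c => pullback.hom_ext (by simp [k', hx2]) (by simp [k', reassoc_of% hx3, hii]))
      fun c y h1 h2 => hext _ _ ?_ ?_)
    · rw [hx1 c, h1]
    · rw [hx2 c, ← h2]; simp [k']
  -- the composite `U' ⟶ U/R` is locally surjective with kernel pair `R'`
  let π := quotMap s t
  have sqπ := isPullback_quot h
  haveI := isLocallySurjective_quotMap s t
  haveI := isLocallySurjective_quotMap s' t'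
  let c := (yon S).map g ≫ π
  haveI : Sheaf.IsLocallySurjective c := isLocallySurjective_of_lift _ fun T b => by
    obtain ⟨T₁, p, a, hp, ha⟩ := exists_lift_of_isLocallySurjective π b
    obtain ⟨a, rfl⟩ := (yon S).map_surjective a
    let hX := pullback.snd g t ≫ s
    refine ⟨pullback a hX, pullback.fst a hX ≫ p,
      (yon S).map (pullback.snd a hX ≫ pullback.fst g t),
      MorphismProperty.comp_mem fppfCover _ _
        (MorphismProperty.of_isPullback ((IsPullback.of_hasPullback a hX).flip.map (Over.forget S)) hg)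
        hp, ?_⟩
    rw [Functor.map_comp (yon S) (pullback.fst a hX) p, Category.assoc, ← ha]
    simp only [c, ← Functor.map_comp_assoc, Category.assoc, pullback.condition, hX]
    simp only [Functor.map_comp, Category.assoc]
    rw [← sqπ.w]
  have sqc : IsPullback ((yon S).map t') ((yon S).map s') c c := by
    refine isPullback_of_yon ?_ (fun T x y h1 h2 => ?_) fun T a b e => ?_
    · simp only [c, ← Functor.map_comp_assoc, ← hrt, ← hrs]
      simp only [Functor.map_comp, Category.assoc, π, sqπ.w]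
    · obtain ⟨x, rfl⟩ := (yon S).map_surjective x
      obtain ⟨y, rfl⟩ := (yon S).map_surjective y
      rw [← Functor.map_comp, ← Functor.map_comp] at h1 h2
      rw [hext x y ((yon S).map_injective h1) ((yon S).map_injective h2)]
    · obtain ⟨a, rfl⟩ := (yon S).map_surjective a
      obtain ⟨b, rfl⟩ := (yon S).map_surjective b
      simp only [c, ← Functor.map_comp_assoc] at e
      obtain ⟨d, hd⟩ := (yon S).map_surjective (sqπ.lift _ _ e)
      obtain ⟨x, hx1, hx2, -⟩ := hex a b d
        ((yon S).map_injective (by rw [Functor.map_comp, hd, sqπ.lift_fst]))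
        ((yon S).map_injective (by rw [Functor.map_comp, hd, sqπ.lift_snd]))
      exact ⟨(yon S).map x, by rw [← Functor.map_comp, hx1], by rw [← Functor.map_comp, hx2]⟩
  let π₀ := QuotSh.quotπ Scheme.fppfPrecoverage s t
  let ψ : QuotSh.quot Scheme.fppfPrecoverage s' t' ⟶ QuotSh.quot Scheme.fppfPrecoverage s t :=
    coequalizer.desc (QuotSh.repMap Scheme.fppfPrecoverage g ≫ π₀) (by
      rw [← cancel_epi (QuotSh.repIsoUliftYoneda Scheme.fppfPrecoverage R').inv]
      simp only [repIso_inv_repMap_assoc]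
      exact sqc.w.symm)
  have hψ : QuotSh.quotπ Scheme.fppfPrecoverage s' t' ≫ ψ =
      QuotSh.repMap Scheme.fppfPrecoverage g ≫ π₀ := coequalizer.π_desc _ _
  have hψ' : quotMap s' t' ≫ ψ = c := by
    rw [Category.assoc, hψ, repIso_inv_repMap_assoc]
  obtain ⟨l, hl⟩ := exists_desc c sqc (quotMap s' t') (quotMap_condition s' t').symm
  refine ⟨R', s', t', r, k, k', ψ, heq, hrs, hrt, sqk, sqk', hψ, ⟨l, ?_, ?_⟩⟩
  · haveI := epi_quotMap s' t'
    rw [← cancel_epi (quotMap s' t'), ← Category.assoc, hψ', hl]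
    exact (Category.comp_id _).symm
  · haveI : Epi c := (Sheaf.isLocallySurjective_iff_epi' (Type (u + 1)) c).1 inferInstance
    rw [← cancel_epi c, ← Category.assoc, hl, hψ']
    exact (Category.comp_id _).symm

end Groth.Agent.Lib.Bootstrap
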