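import Groth.Agent.Lib.Bootstrap.Quot
import Mathlib.CategoryTheory.EquivalenceRelation

/-!
Internal equivalence relations of schemes over a base and their quotient spaces.
-/

set_option autoImplicit false
set_option linter.style.haveILetI false

universe u

open CategoryTheory CategoryTheory.Limits AlgebraicGeometry

namespace Groth.Agent.Lib.Bootstrap

open AlgSp (IsEqvRel IsAlgSpace)

variable {S : Scheme.{u}} {R U : Over S}

theorem isEqvRel_of_equivalenceRelation (s t : R ⟶ U) [IsEquivalenceRelation s t] : IsEqvRel s t := by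
  obtain ⟨h⟩ := IsEquivalenceRelation.nonempty_equivalenceRelation (p₁ := s) (p₂ := t)
  refine ⟨fun T r r' h1 h2 => h.right_cancellation r r' h2 h1, fun T => ⟨fun a => ⟨a ≫ h.r, ?_, ?_⟩, ?_, ?_⟩⟩
  · rw [Category.assoc, h.reflexivity₂, Category.comp_id]
  · rw [Category.assoc, h.reflexivity₁, Category.comp_id]
  · rintro a b ⟨r, rfl, rfl⟩
    exact ⟨r ≫ h.s, by rw [Category.assoc, h.symmetry₂], by rw [Category.assoc, h.symmetry₁]⟩
  · rintro a b c ⟨r, rfl, rfl⟩ ⟨r', h1, rfl⟩
    obtain ⟨l, hl1, hl2⟩ := PullbackCone.IsLimit.lift' h.isLimit r' r h1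
    refine ⟨l ≫ h.t, ?_, ?_⟩
    · rw [Category.assoc, h.transitivity₂, reassoc_of% hl2]
    · rw [Category.assoc, h.transitivity₁, reassoc_of% hl1]

theorem isAlgSpace_quot_of_equivalenceRelation (s t : R ⟶ U) [IsEquivalenceRelation s t]
    [Flat s.left] [LocallyOfFinitePresentation s.left] :
    IsAlgSpace (QuotSh.quot Scheme.fppfPrecoverage s t) := by
  obtain ⟨h⟩ := IsEquivalenceRelation.nonempty_equivalenceRelation (p₁ := s) (p₂ := t)
  have hss : h.s ≫ h.s = 𝟙 R := h.right_cancellation _ _
    (by rw [Category.assoc, h.symmetry₁, h.symmetry₂, Category.id_comp])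
    (by rw [Category.assoc, h.symmetry₂, h.symmetry₁, Category.id_comp])
  haveI : IsIso h.s := ⟨h.s, hss, hss⟩
  haveI : IsIso h.s.left := inferInstanceAs (IsIso ((Over.forget S).map h.s))
  have ht : t.left = h.s.left ≫ s.left := by rw [← Over.comp_left, h.symmetry₁]
  haveI : Flat t.left := by rw [ht]; infer_instance
  haveI : LocallyOfFinitePresentation t.left := by rw [ht]; infer_instance
  exact isAlgSpace_quot (isEqvRel_of_equivalenceRelation s t)

end Groth.Agent.Lib.Bootstrap
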