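import Groth.Agent.H19.FlatLocus.Scheme
import Groth.Agent.Lib.LocalFlat.Fibre
import Mathlib.AlgebraicGeometry.ZariskisMainTheorem
import Mathlib.AlgebraicGeometry.Morphisms.UniversallyOpen
import Mathlib.RingTheory.Flat.FaithfullyFlat.Algebra

/-!
# The flat and quasi-finite locus
-/

set_option autoImplicit false

universe u

open CategoryTheory CategoryTheory.Limits AlgebraicGeometry

namespace Groth.Agent.Lib.Bootstrap

variable {X Y X' Y' : Scheme.{u}}

/-- `f` is flat and quasi-finite at `x`. -/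
def Good (f : X ⟶ Y) (x : X) : Prop := (f.stalkMap x).hom.Flat ∧ f.QuasiFiniteAt x

theorem good_of (f : X ⟶ Y) [Flat f] [LocallyQuasiFinite f] (x : X) : Good f x :=
  ⟨Flat.stalkMap f x, f.quasiFiniteAt x⟩

theorem good_comp_iff_of_isOpenImmersion (j : X' ⟶ X) [IsOpenImmersion j] (f : X ⟶ Y) (x : X') :
    Good (j ≫ f) x ↔ Good f (j x) := by
  refine and_congr ?_ Scheme.Hom.quasiFiniteAt_comp_iff_of_isOpenImmersion
  simp only [Scheme.Hom.stalkMap_comp, CommRingCat.hom_comp]
  exact RingHom.Flat.respectsIso.cancel_right_isIso _ _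

/-- The open set where `f` is flat and quasi-finite. -/
def locus (f : X ⟶ Y) [LocallyOfFinitePresentation f] : X.Opens :=
  ⟨{x | Good f x}, (H19.FlatLocus.Scheme.isOpen_flat_stalkMap f).inter f.isOpen_quasiFiniteAt⟩

theorem mem_locus {f : X ⟶ Y} [LocallyOfFinitePresentation f] {x : X} : x ∈ locus f ↔ Good f x :=
  Iff.rfl

theorem flat_of_le_good (f : X ⟶ Y) (O : X.Opens) (h : ∀ x ∈ O, Good f x) : Flat (O.ι ≫ f) :=
  (Flat.iff_flat_stalkMap _).2 fun x => ((good_comp_iff_of_isOpenImmersion O.ι f x).2 (h x.1 x.2)).1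

theorem lqf_of_le_good (f : X ⟶ Y) [LocallyOfFiniteType f] (O : X.Opens) (h : ∀ x ∈ O, Good f x) :
    LocallyQuasiFinite (O.ι ≫ f) := by
  rw [← Scheme.Hom.quasiFiniteLocus_eq_top_iff]
  exact top_le_iff.1 fun x _ => ((good_comp_iff_of_isOpenImmersion O.ι f x).2 (h x.1 x.2)).2

/-- A morphism good at every point is flat and locally quasi-finite. -/
theorem flat_lqf_of_forall_good (f : X ⟶ Y) [LocallyOfFiniteType f] (h : ∀ x, Good f x) :
    Flat f ∧ LocallyQuasiFinite f :=
  ⟨(Flat.iff_flat_stalkMap f).2 fun x => (h x).1,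
    (Scheme.Hom.quasiFiniteLocus_eq_top_iff f).1 (top_le_iff.1 fun x _ => (h x).2)⟩

theorem good_baseChange {g : X' ⟶ X} {f' : X' ⟶ Y'} {f : X ⟶ Y} {h : Y' ⟶ Y}
    (sq : IsPullback g f' f h) [LocallyOfFinitePresentation f] {x : X'} (hx : Good f (g x)) :
    Good f' x := by
  have hO : ∀ z ∈ locus f, Good f z := fun z hz => hz
  have := flat_of_le_good f (locus f) hO
  have := lqf_of_le_good f (locus f) hO
  have sq' := (isPullback_morphismRestrict g (locus f)).paste_vert sq
  have : Flat ((g ⁻¹ᵁ locus f).ι ≫ f') := MorphismProperty.of_isPullback sq' ‹Flat ((locus f).ι ≫ f)›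
  have : LocallyQuasiFinite ((g ⁻¹ᵁ locus f).ι ≫ f') :=
    MorphismProperty.of_isPullback sq' ‹LocallyQuasiFinite ((locus f).ι ≫ f)›
  exact (good_comp_iff_of_isOpenImmersion (g ⁻¹ᵁ locus f).ι f' ⟨x, hx⟩).1 (good_of _ _)

theorem quasiFiniteAt_of_isOpen_singleton (f : X ⟶ Y) [LocallyOfFiniteType f] (y : Y) (z : f.fiber y)
    (hz : IsOpen {z}) : f.QuasiFiniteAt (f.fiberι y z) := by
  have hy : f (f.fiberι y z) = y := by
    have := Set.mem_range_self (f := f.fiberι y) z
    rwa [Scheme.Hom.range_fiberι] at this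
  generalize hx : f.fiberι y z = x at hy
  subst hy
  rw [Scheme.Hom.quasiFiniteAt_iff_isOpen_singleton_asFiber]
  convert hz
  exact (f.fiberι (f x)).isEmbedding.injective ((f.fiberι_asFiber x).trans hx.symm)

theorem good_descend {g : X' ⟶ X} {f' : X' ⟶ Y'} {f : X ⟶ Y} {h : Y' ⟶ Y}
    (sq : IsPullback g f' f h) [LocallyOfFinitePresentation f] [Flat h] {x : X'}
    (hx : Good f' x) : Good f (g x) := by
  have : Flat g := MorphismProperty.of_isPullback sq.flip ‹Flat h›
  have hcomp : ((g ≫ f).stalkMap x).hom.Flat := by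
    rw [sq.w, Scheme.Hom.stalkMap_comp]
    exact (Flat.stalkMap h (f' x)).comp hx.1
  rw [Scheme.Hom.stalkMap_comp] at hcomp
  change ((g.stalkMap x).hom.comp (f.stalkMap (g x)).hom).Flat at hcomp
  constructor
  · let : Algebra (X.presheaf.stalk (g x)) (X'.presheaf.stalk x) := (g.stalkMap x).hom.toAlgebra
    let : Algebra (Y.presheaf.stalk (f (g x))) (X.presheaf.stalk (g x)) := (f.stalkMap (g x)).hom.toAlgebra
    let : Algebra (Y.presheaf.stalk (f (g x))) (X'.presheaf.stalk x) :=
      ((g.stalkMap x).hom.comp (f.stalkMap (g x)).hom).toAlgebra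
    have : IsScalarTower (Y.presheaf.stalk (f (g x))) (X.presheaf.stalk (g x)) (X'.presheaf.stalk x) :=
      .of_algebraMap_eq fun _ => rfl
    have : Module.Flat (X.presheaf.stalk (g x)) (X'.presheaf.stalk x) := Flat.stalkMap g x
    have : IsLocalHom (algebraMap (X.presheaf.stalk (g x)) (X'.presheaf.stalk x)) :=
      g.toLRSHom.prop x
    have : Module.FaithfullyFlat (X.presheaf.stalk (g x)) (X'.presheaf.stalk x) :=
      .of_flat_of_isLocalHom
    have : Module.Flat (Y.presheaf.stalk (f (g x))) (X'.presheaf.stalk x) := hcomp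
    exact LocalFlat.Fibre.flat_of_flat_of_faithfullyFlat (R := Y.presheaf.stalk (f (g x)))
      (S := X.presheaf.stalk (g x)) (M := X'.presheaf.stalk x)
  · have hlft : LocallyOfFiniteType f' := MorphismProperty.of_isPullback sq inferInstance
    let m : f'.fiber (f' x) ⟶ f.fiber (h (f' x)) :=
      pullback.map _ _ _ _ g (Spec.map (h.residueFieldMap (f' x))) h sq.w.symm (by simp)
    have sqF := isPullback_fiberToSpecResidueField_of_isPullback sq (f' x)
    have : UniversallyOpen m := MorphismProperty.of_isPullback (P := @UniversallyOpen) sqF.flip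
      (inferInstance : UniversallyOpen (Spec.map (h.residueFieldMap (f' x))))
    have hopen := m.isOpenMap _ (Scheme.Hom.quasiFiniteAt_iff_isOpen_singleton_asFiber.1 hx.2)
    rw [Set.image_singleton] at hopen
    have hm : f.fiberι (h (f' x)) (m (f'.asFiber x)) = g x := by
      have hmι : m ≫ f.fiberι (h (f' x)) = f'.fiberι (f' x) ≫ g := pullback.lift_fst _ _ _
      rw [← Scheme.Hom.comp_apply, hmι, Scheme.Hom.comp_apply, Scheme.Hom.fiberι_asFiber]
    have := quasiFiniteAt_of_isOpen_singleton f _ _ hopen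
    rwa [hm] at this

theorem good_iff_of_isPullback {g : X' ⟶ X} {f' : X' ⟶ Y'} {f : X ⟶ Y} {h : Y' ⟶ Y}
    (sq : IsPullback g f' f h) [LocallyOfFinitePresentation f] [Flat h] (x : X') :
    Good f' x ↔ Good f (g x) :=
  ⟨good_descend sq, good_baseChange sq⟩

end Groth.Agent.Lib.Bootstrap
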