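import Groth.Agent.Lib.AlgSpMor.Sep
import Groth.Agent.Lib.AlgSpace.Quot
import Mathlib.AlgebraicGeometry.Morphisms.Immersion

/-!
# Immersions descend along fppf covers; invariant subschemes of presentations
-/

set_option autoImplicit false
set_option linter.style.haveILetI false

universe u

open CategoryTheory CategoryTheory.Limits AlgebraicGeometry Opposite

namespace Groth.Agent.Lib.Bootstrap

open Groth.Agent.Lib.AlgSpace

theorem isImmersion_of_fppfCover {A Y' X Y : Scheme.{u}} {p : Y' ⟶ Y} {f : X ⟶ Y} {f' : A ⟶ Y'}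
    {g : A ⟶ X} (sq : IsPullback f' g p f) (hp : fppfCover p) [IsImmersion f'] : IsImmersion f := by
  haveI := hp.1.1; haveI := hp.1.2; haveI := hp.2
  have hrange : p ⁻¹' Set.range f = Set.range f' := by
    ext y
    constructor
    · rintro ⟨x, hx⟩
      obtain ⟨a, ha, -⟩ := Scheme.exists_preimage_of_isPullback sq y x hx.symm
      exact ⟨a, ha⟩
    · rintro ⟨a, rfl⟩
      exact ⟨g a, by rw [← Scheme.Hom.comp_apply, ← Scheme.Hom.comp_apply, sq.w]⟩
  have hopen : IsOpen (coborder (Set.range f)) := by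
    refine (p.isOpenMap.isQuotientMap p.continuous p.surjective).isOpen_preimage.1 ?_
    rw [← coborder_preimage p.isOpenMap p.continuous, hrange, ← isLocallyClosed_iff_isOpen_coborder]
    exact f'.isLocallyClosed_range
  let U : Y.Opens := ⟨coborder (Set.range f), hopen⟩
  have hfU : Set.range f ⊆ Set.range U.ι := U.range_ι.symm ▸ subset_coborder
  let h := IsOpenImmersion.lift U.ι f hfU
  have hfac : h ≫ U.ι = f := IsOpenImmersion.lift_fac _ _ _
  have hfU' : Set.range f' ⊆ Set.range (p ⁻¹ᵁ U).ι := by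
    rw [Scheme.Opens.range_ι]
    rintro _ ⟨a, rfl⟩
    change p (f' a) ∈ U
    rw [← Scheme.Hom.comp_apply, sq.w, Scheme.Hom.comp_apply]
    exact subset_coborder ⟨_, rfl⟩
  let h' := IsOpenImmersion.lift (p ⁻¹ᵁ U).ι f' hfU'
  have hfac' : h' ≫ (p ⁻¹ᵁ U).ι = f' := IsOpenImmersion.lift_fac _ _ _
  have sqU := isPullback_morphismRestrict p U
  have w : h' ≫ p ∣_ U = g ≫ h := by
    rw [← cancel_mono U.ι, Category.assoc, Category.assoc, hfac, sqU.w, reassoc_of% hfac', sq.w]
  have hb : IsPullback g (h' ≫ (p ⁻¹ᵁ U).ι) (h ≫ U.ι) p := by rw [hfac, hfac']; exact sq.flip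
  have sq' : IsPullback h' g (p ∣_ U) h := (IsPullback.of_bot hb w.symm sqU).flip
  haveI : IsImmersion (h' ≫ (p ⁻¹ᵁ U).ι) := hfac'.symm ▸ ‹IsImmersion f'›
  haveI : IsImmersion h' := IsImmersion.of_comp h' (p ⁻¹ᵁ U).ι
  have hc : IsClosed (Set.range h') := by
    have e : Set.range h' = (p ⁻¹ᵁ U).ι ⁻¹' Set.range f' := by
      ext z
      constructor
      · rintro ⟨a, rfl⟩; exact ⟨a, by rw [← hfac']; rfl⟩
      · rintro ⟨a, ha⟩
        refine ⟨a, (p ⁻¹ᵁ U).ι.isOpenEmbedding.injective ?_⟩
        rw [← ha, ← Scheme.Hom.comp_apply, hfac']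
    rw [e, ← hrange]
    have : IsClosed (Subtype.val ⁻¹' Set.range f : Set (coborder (Set.range f))) :=
      isClosed_preimage_val_coborder
    convert this.preimage (p ∣_ U).continuous using 1
    ext z
    simp only [Set.mem_preimage]
    rw [show p ((p ⁻¹ᵁ U).ι z) = U.ι ((p ∣_ U) z) by
      rw [← Scheme.Hom.comp_apply, ← Scheme.Hom.comp_apply, sqU.w]]
    rfl
  haveI : IsClosedImmersion h' := .of_isPreimmersion h' hc
  haveI := AlgSpMor.Sep.isLocalAtTarget_fppf_isClosedImmersion.{u}
  have hpU : fppfCover (p ∣_ U) := MorphismProperty.of_isPullback sqU.flip hp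
  have : IsClosedImmersion h := by
    refine of_fppfCover @IsClosedImmersion hpU ?_
    rw [← MorphismProperty.cancel_left_of_respectsIso @IsClosedImmersion sq'.flip.isoPullback.hom,
      sq'.flip.isoPullback_hom_snd]
    infer_instance
  rw [← hfac]
  infer_instance

theorem isLocalAtTarget_fppf_isImmersion :
    MorphismProperty.IsLocalAtTarget @IsImmersion.{u} Scheme.fppfPrecoverage :=
  haveI : MorphismProperty.DescendsAlong @IsImmersion.{u}
      (@Surjective ⊓ @Flat ⊓ @LocallyOfFinitePresentation) :=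
    ⟨fun {A X Y Z fst snd f g} sq hf hfst => by
      haveI : IsImmersion fst := hfst
      exact isImmersion_of_fppfCover sq hf⟩
  isLocalAtTarget_fppf _

end Groth.Agent.Lib.Bootstrap
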