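import Groth.Agent.Lib.Flat55.Localized
import Mathlib.RingTheory.AlgebraicIndependent.Transcendental
import Mathlib.RingTheory.AlgebraicIndependent.TranscendenceBasis
import Mathlib.RingTheory.Ideal.GoingUp
import Mathlib.RingTheory.Ideal.MinimalPrime.Noetherian
import Mathlib.RingTheory.LocalRing.ResidueField.Fiber
import Mathlib.RingTheory.RingHom.QuasiFinite
import Mathlib.RingTheory.RingHom.Unramified
import Mathlib.RingTheory.Unramified.LocalStructure
import Mathlib.RingTheory.ZariskisMainTheorem
import Mathlib.RingTheory.RingHom.Flat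

/-!
# Slicing an algebra by flat, quasi-finite coordinates

If `B` is flat and finitely presented over `A` and unramified over `A[x_i]`, then over every prime
of `A` in the image there is a prime of `B` at which some of the `x_i` define a flat quasi-finite map.
-/

set_option autoImplicit false

universe u

open TensorProduct MvPolynomial

namespace Groth.Agent.Lib.Bootstrap.SliceAlg

variable {A B : Type u} [CommRing A] [CommRing B] [Algebra A B]

/-- A minimal prime of a fibre, alone near itself. -/
theorem exists_minimal (p : Ideal A) [p.IsPrime] [Algebra.FiniteType A B]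
    (hp : ∃ q : Ideal B, q.IsPrime ∧ q.comap (algebraMap A B) = p) :
    ∃ (q : Ideal B) (b : B), q.IsPrime ∧ q.comap (algebraMap A B) = p ∧ b ∉ q ∧
      ∀ Q : Ideal B, Q.IsPrime → Q.comap (algebraMap A B) = p → b ∉ Q → q ≤ Q := by
  classical
  obtain ⟨q₀, hq₀, hq₀p⟩ := hp
  let e := PrimeSpectrum.primesOverOrderIsoFiber A B p
  have h0 : q₀ ∈ p.primesOver B := ⟨hq₀, ⟨hq₀p.symm⟩⟩
  have : IsNoetherianRing (p.Fiber B) := Algebra.FiniteType.isNoetherianRing p.ResidueField _
  have : Nontrivial (p.Fiber B) := PrimeSpectrum.nontrivial (e ⟨q₀, h0⟩)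
  have hfin : (minimalPrimes (p.Fiber B)).Finite := minimalPrimes.finite_of_isNoetherianRing _
  obtain ⟨qF, hqF⟩ := Ideal.nonempty_minimalPrimes (I := (⊥ : Ideal (p.Fiber B))) bot_ne_top
  haveI hqFp : qF.IsPrime := hqF.1.1
  have hmin : ∀ r ∈ minimalPrimes (p.Fiber B), r ≠ qF → ∃ c, c ∈ r ∧ c ∉ qF := fun r hr hne =>
    SetLike.not_le_iff_exists.mp fun hle => hne (le_antisymm hle (hqF.2 ⟨hr.1.1, bot_le⟩ hle))
  choose! c hc hc' using hmin
  let bF : p.Fiber B := ∏ r ∈ hfin.toFinset.erase qF, c r
  have hbF : bF ∉ qF := fun h => by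
    obtain ⟨r, hr, hrq⟩ := hqFp.prod_mem_iff.1 h
    rw [Finset.mem_erase, Set.Finite.mem_toFinset] at hr
    exact hc' r hr.2 hr.1 hrq
  obtain ⟨t, ht, b, hb⟩ := Ideal.Fiber.exists_smul_eq_one_tmul p bF
  have hcomap : ∀ QF : Ideal (p.Fiber B), QF.IsPrime →
      (bF ∈ QF ↔ b ∈ QF.comap Algebra.TensorProduct.includeRight.toRingHom) := fun QF hQF => by
    have hu : IsUnit (algebraMap A (p.Fiber B) t) := by
      rw [IsScalarTower.algebraMap_apply A p.ResidueField (p.Fiber B)]
      refine (IsUnit.mk0 _ ?_).map _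
      simpa [Ideal.algebraMap_residueField_eq_zero] using ht
    rw [Ideal.mem_comap]
    change bF ∈ QF ↔ (1 : p.ResidueField) ⊗ₜ[A] b ∈ QF
    rw [← hb, Algebra.smul_def, Ideal.unit_mul_mem_iff_mem _ hu]
  let Q₁ := e.symm ⟨qF, hqFp⟩
  have hQ₁ : Q₁.1 = qF.comap Algebra.TensorProduct.includeRight.toRingHom := rfl
  refine ⟨Q₁.1, b, Q₁.2.1, Q₁.2.2.over.symm, fun h => hbF ((hcomap qF hqFp).2 (hQ₁ ▸ h)),
    fun Q hQ hQp hbQ => ?_⟩
  let QF := e ⟨Q, hQ, ⟨hQp.symm⟩⟩
  have hQF : QF.asIdeal.comap Algebra.TensorProduct.includeRight.toRingHom = Q :=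
    congrArg Subtype.val (e.symm_apply_apply ⟨Q, hQ, ⟨hQp.symm⟩⟩)
  have hbQF : bF ∉ QF.asIdeal := fun h => hbQ (hQF ▸ (hcomap _ QF.2).1 h)
  obtain ⟨r, hr, hrQ⟩ := Ideal.exists_minimalPrimes_le (I := ⊥) (J := QF.asIdeal) bot_le
  have : r = qF := by
    by_contra hne
    refine hbQF (hrQ ?_)
    haveI := hr.1.1
    exact Ideal.IsPrime.prod_mem_iff.2 ⟨r, by simp [hne]; exact hr, hc r hr hne⟩
  subst this
  rw [hQ₁, ← hQF]
  exact Ideal.comap_mono hrQ

variable {ι : Type u}

/-- A maximal algebraically independent subfamily modulo a prime. -/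
theorem exists_indep [Finite ι] (x : ι → B) (p : Ideal A) [p.IsPrime] (q : Ideal B) [q.IsPrime]
    (hq : q.comap (algebraMap A B) = p) :
    ∃ s : Set ι, (∀ g : MvPolynomial s A, aeval (fun i : s => x i) g ∈ q → g ∈ p.map C) ∧
      ∀ Q : Ideal B, Q.IsPrime → q ≤ Q →
        (∀ g : MvPolynomial s A, aeval (fun i : s => x i) g ∈ Q → g ∈ p.map C) →
        Q.comap (aeval (R := A) x).toRingHom = q.comap (aeval (R := A) x).toRingHom := by
  classical
  haveI : q.LiesOver p := ⟨hq.symm⟩
  let y : ι → B ⧸ q := fun i => Ideal.Quotient.mk q (x i)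
  have hev : ∀ {σ : Type u} (v : σ → ι) (g : MvPolynomial σ A),
      Ideal.Quotient.mk q (aeval (fun i => x (v i)) g) =
        aeval (fun i => y (v i)) (MvPolynomial.map (Ideal.Quotient.mk p) g) := fun v g => by
    induction g using MvPolynomial.induction_on with
    | C a => simp
    | add f g hf hg => simp [hf, hg]
    | mul_X f i hf => simp [hf, y]
  have hempty : AlgebraicIndepOn (A ⧸ p) y (∅ : Set ι) := by
    rw [AlgebraicIndepOn, algebraicIndependent_empty_type_iff]
    intro a b hab
    obtain ⟨a, rfl⟩ := Ideal.Quotient.mk_surjective a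
    obtain ⟨b, rfl⟩ := Ideal.Quotient.mk_surjective b
    rw [Ideal.Quotient.eq, ← hq, Ideal.mem_comap, map_sub]
    exact Ideal.Quotient.eq.1 hab
  obtain ⟨s, -, hs, hmax⟩ : ∃ s : Set ι, ∅ ⊆ s ∧ AlgebraicIndepOn (A ⧸ p) y s ∧
      ∀ t, AlgebraicIndepOn (A ⧸ p) y t → s ⊆ t → t ⊆ s := by
    obtain ⟨s, hle, hs⟩ := (Set.toFinite {t : Set ι | AlgebraicIndepOn (A ⧸ p) y t}).exists_le_maximal
      hempty
    exact ⟨s, hle, hs.1, fun t ht hst => hs.2 ht hst⟩
  refine ⟨s, fun g hg => ?_, fun Q hQ hqQ hQs => ?_⟩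
  · have h := hev (fun i : s => (i : ι)) g
    rw [Ideal.Quotient.eq_zero_iff_mem.2 hg] at h
    have h0 : MvPolynomial.map (Ideal.Quotient.mk p) g = 0 :=
      hs.eq_zero_of_aeval_eq_zero _ h.symm
    rw [mem_map_C_iff]
    intro m
    rw [← Ideal.Quotient.eq_zero_iff_mem, ← coeff_map, h0, coeff_zero]
  · refine le_antisymm (fun f hf => ?_) (Ideal.comap_mono hqQ)
    by_contra hfq
    rw [Ideal.mem_comap] at hf hfq
    set S₀ := Algebra.adjoin (A ⧸ p) (y '' s)
    set d : B ⧸ q := Ideal.Quotient.mk q (aeval (R := A) x f) with hd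
    have hd0 : d ≠ 0 := fun h => hfq (Ideal.Quotient.eq_zero_iff_mem.1 h)
    have halg : ∀ i, IsAlgebraic S₀ (y i) := fun i => by
      by_cases hi : i ∈ s
      · exact isAlgebraic_algebraMap (⟨y i, Algebra.subset_adjoin ⟨i, hi, rfl⟩⟩ : S₀)
      · by_contra ht
        exact hi (hmax _ (hs.insert ht) (Set.subset_insert _ _) (Set.mem_insert _ _))
    have hdalg : IsAlgebraic S₀ d := by
      refine IsAlgebraic.adjoin_of_forall_isAlgebraic (s := Set.range y) (t := y '' s) ?_ ?_
      · rintro _ ⟨⟨i, rfl⟩, -⟩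
        exact halg i
      · have hmem : d ∈ Algebra.adjoin (A ⧸ p) (Set.range y) := by
          have h := hev id f
          simp only [id] at h
          rw [Algebra.adjoin_range_eq_range_aeval, hd, h]
          exact ⟨_, rfl⟩
        exact isAlgebraic_algebraMap (⟨d, hmem⟩ : Algebra.adjoin (A ⧸ p) (Set.range y))
    let Q' : Ideal (B ⧸ q) := Q.map (Ideal.Quotient.mk q)
    obtain ⟨⟨c, hcS⟩, hcQ, hc0⟩ := Submodule.exists_mem_ne_zero_of_ne_bot
      (Ideal.comap_ne_bot_of_algebraic_mem (I := Q') hd0 (Ideal.mem_map_of_mem _ hf) hdalg)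
    have hcS' : c ∈ Algebra.adjoin (A ⧸ p) (Set.range fun i : s => y i) :=
      Set.image_eq_range y s ▸ hcS
    rw [Algebra.adjoin_range_eq_range_aeval] at hcS'
    obtain ⟨g', hg'⟩ := hcS'
    obtain ⟨g, rfl⟩ := MvPolynomial.map_surjective _ Ideal.Quotient.mk_surjective g'
    refine hc0 (Subtype.ext ?_)
    change c = 0
    have hcQ' : Ideal.Quotient.mk q (aeval (fun i : s => x i) g) ∈ Q' := by
      rw [hev (fun i : s => (i : ι))]
      exact hg' ▸ hcQ
    rw [Ideal.mem_map_iff_of_surjective _ Ideal.Quotient.mk_surjective] at hcQ'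
    obtain ⟨c', hc', hcc'⟩ := hcQ'
    have hgQ : aeval (fun i : s => x i) g ∈ Q := by
      have := Q.sub_mem hc' (hqQ (Ideal.Quotient.eq.1 hcc'))
      simpa using this
    have h0 := hQs g hgQ
    rw [mem_map_C_iff] at h0
    have : MvPolynomial.map (Ideal.Quotient.mk p) g = 0 := by
      ext m
      rw [coeff_map, coeff_zero, Ideal.Quotient.eq_zero_iff_mem]
      exact h0 m
    rw [← hg', this]
    exact map_zero _

/-- Flat quasi-finite coordinates in each non-empty fibre. -/
theorem exists_flat_quasiFinite [Algebra.FinitePresentation A B] [Module.Flat A B] [Finite ι]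
    (x : ι → B) (hu : (aeval (R := A) x).toRingHom.FormallyUnramified) (p : Ideal A) [p.IsPrime]
    (hp : ∃ q : Ideal B, q.IsPrime ∧ q.comap (algebraMap A B) = p) :
    ∃ (κ : Type u) (_ : Finite κ) (a : κ → ι) (q : Ideal B) (_ : q.IsPrime),
      q.comap (algebraMap A B) = p ∧
      (Localization.localRingHom (q.comap (aeval (R := A) (x ∘ a)).toRingHom) q
        (aeval (R := A) (x ∘ a)).toRingHom rfl).Flat ∧
      (Localization.localRingHom (q.comap (aeval (R := A) (x ∘ a)).toRingHom) q
        (aeval (R := A) (x ∘ a)).toRingHom rfl).QuasiFinite := by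
  obtain ⟨q, b, hqp, hq, hbq, hb⟩ := exists_minimal p hp
  obtain ⟨s, hs, hsQ⟩ := exists_indep x p q hq
  refine ⟨s, inferInstance, Subtype.val, q, hqp, hq, ?_⟩
  let φ : MvPolynomial s A →ₐ[A] B := aeval (R := A) (x ∘ Subtype.val)
  let P := q.comap φ.toRingHom
  have hP : P = p.map C := le_antisymm (fun g hg => hs g hg) (by
    rw [Ideal.map_le_iff_le_comap, ← hq]
    intro a ha
    simpa [P, φ] using ha)
  let : Algebra (MvPolynomial s A) B := φ.toRingHom.toAlgebra
  have : IsScalarTower A (MvPolynomial s A) B := IsScalarTower.of_algebraMap_eq' φ.comp_algebraMap.symm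
  have : Algebra.FiniteType (MvPolynomial s A) B :=
    Algebra.FiniteType.of_restrictScalars_finiteType A (MvPolynomial s A) B
  haveI : q.LiesOver p := ⟨hq.symm⟩
  haveI : q.LiesOver P := ⟨rfl⟩
  let := Localization.AtPrime.algebraOfLiesOver P q
  let := Localization.AtPrime.algebraOfLiesOver p q
  have hcm : φ.toRingHom.comp (algebraMap A (MvPolynomial s A)) = algebraMap A B := φ.comp_algebraMap
  haveI : P.LiesOver p := ⟨by rw [Ideal.under, Ideal.comap_comap, hcm, hq]⟩
  let := Localization.AtPrime.algebraOfLiesOver p P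
  constructor
  · have hfib : Module.Flat (Localization.AtPrime P ⧸ (IsLocalRing.maximalIdeal (Localization.AtPrime p)).map
        (algebraMap (Localization.AtPrime p) (Localization.AtPrime P)))
        (Localization.AtPrime q ⧸ (IsLocalRing.maximalIdeal (Localization.AtPrime p)).map
          (algebraMap (Localization.AtPrime p) (Localization.AtPrime P)) •
            (⊤ : Submodule (Localization.AtPrime P) (Localization.AtPrime q))) := by
      have hm : (IsLocalRing.maximalIdeal (Localization.AtPrime p)).map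
          (algebraMap (Localization.AtPrime p) (Localization.AtPrime P)) =
            IsLocalRing.maximalIdeal (Localization.AtPrime P) := by
        rw [← Localization.AtPrime.map_eq_maximalIdeal (I := p),
          ← Localization.AtPrime.map_eq_maximalIdeal (I := P), Ideal.map_map,
          ← IsScalarTower.algebraMap_eq, IsScalarTower.algebraMap_eq A (MvPolynomial s A) _,
          ← Ideal.map_map]
        exact (congrArg (Ideal.map (algebraMap (MvPolynomial s A) (Localization.AtPrime P))) hP).symm
      rw [hm]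
      let := Ideal.Quotient.field (IsLocalRing.maximalIdeal (Localization.AtPrime P))
      infer_instance
    have : Module.Flat A (Localization.AtPrime q) := Module.Flat.trans A B (Localization.AtPrime q)
    have : Module.Flat (Localization.AtPrime p) (Localization.AtPrime q) :=
      (Module.flat_iff_of_isLocalization (Localization.AtPrime p) p.primeCompl _).2 inferInstance
    have := Flat55.Localized.flat_of_flat_fibre (R := A) (B := MvPolynomial s A) (C := B)
      (R' := Localization.AtPrime p) (B' := Localization.AtPrime P) (C' := Localization.AtPrime q)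
      p.primeCompl P.primeCompl q
      (fun r => by rw [← IsScalarTower.algebraMap_apply, ← IsScalarTower.algebraMap_apply])
      (fun z => by rw [← IsScalarTower.algebraMap_apply, ← IsScalarTower.algebraMap_apply])
      (Algebra.linearMap B (Localization.AtPrime q)) hfib
    exact RingHom.flat_algebraMap_iff.2 this
  · have hiso : ∀ Q : Ideal B, Q.IsPrime → Q.comap φ.toRingHom = P → b ∉ Q → Q = q := fun Q hQ hQP hbQ => by
      have hQp : Q.comap (algebraMap A B) = p := by
        rw [← φ.comp_algebraMap, ← Ideal.comap_comap]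
        change (Q.comap φ.toRingHom).comap _ = p
        rw [hQP, Ideal.comap_comap, hcm, hq]
      have hle := hb Q hQ hQp hbQ
      have hc := hsQ Q hQ hle fun g hg => hP ▸ hQP ▸ hg
      let : Algebra (MvPolynomial ι A) B := (aeval (R := A) x).toRingHom.toAlgebra
      have : Algebra.FormallyUnramified (MvPolynomial ι A) B := hu
      have : IsScalarTower A (MvPolynomial ι A) B :=
        IsScalarTower.of_algebraMap_eq' (aeval (R := A) x).comp_algebraMap.symm
      have : Algebra.FiniteType (MvPolynomial ι A) B :=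
        Algebra.FiniteType.of_restrictScalars_finiteType A (MvPolynomial ι A) B
      exact (Algebra.QuasiFinite.eq_of_le_of_under_eq q Q hle hc.symm).symm
    have : Algebra.QuasiFiniteAt (MvPolynomial s A) q := by
      refine Algebra.QuasiFiniteAt.of_isOpen_singleton_fiber ⟨q, hqp⟩ ?_
      convert (PrimeSpectrum.basicOpen b).isOpen.preimage continuous_subtype_val using 1
      ext ⟨⟨Q, hQ⟩, hQP⟩
      refine ⟨fun h => by rw [Set.mem_singleton_iff] at h; rw [h]; exact hbq, fun hbQ => ?_⟩
      exact Subtype.ext (PrimeSpectrum.ext (hiso Q hQ (congrArg PrimeSpectrum.asIdeal hQP) hbQ))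
    have : Algebra.QuasiFinite (Localization.AtPrime P) (Localization.AtPrime q) :=
      .of_restrictScalars (MvPolynomial s A) _ _
    exact RingHom.quasiFinite_algebraMap.2 this

end Groth.Agent.Lib.Bootstrap.SliceAlg
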