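import Groth.Agent.Lib.Bootstrap.Good
import Groth.Agent.Lib.Bootstrap.SliceAlg
import Groth.Agent.Lib.Flat55.FibreTransfer
import Groth.Agent.Lib.Slicing.Coords
import Groth.Agent.Lib.Slicing.Rational
import Groth.Agent.Lib.SourceDescent.Scheme

/-!
# A flat, locally quasi-finite slice through a point
-/

set_option autoImplicit false
set_option linter.style.haveILetI false
set_option backward.isDefEq.respectTransparency false
set_option backward.isDefEq.respectTransparency.types false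

universe u

open CategoryTheory CategoryTheory.Limits AlgebraicGeometry TensorProduct

namespace Groth.Agent.Lib.Bootstrap

/-- Finitely many elements whose differentials span give an unramified map from a polynomial ring. -/
theorem formallyUnramified_aeval {A B : Type u} [CommRing A] [CommRing B] [Algebra A B] {ι : Type u}
    (x : ι → B) (h : Submodule.span B (Set.range fun i => KaehlerDifferential.D A B (x i)) = ⊤) :
    (MvPolynomial.aeval (R := A) x).toRingHom.FormallyUnramified := by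
  let _ : Algebra (MvPolynomial ι A) B := (MvPolynomial.aeval (R := A) x).toRingHom.toAlgebra
  have : IsScalarTower A (MvPolynomial ι A) B :=
    IsScalarTower.of_algebraMap_eq' (MvPolynomial.aeval (R := A) x).comp_algebraMap.symm
  show Algebra.FormallyUnramified (MvPolynomial ι A) B
  refine ⟨⟨fun a b => ?_⟩⟩
  have key : ∀ z : Ω[B⁄MvPolynomial ι A], z = 0 := fun z => by
    obtain ⟨w, rfl⟩ := KaehlerDifferential.map_surjective A (MvPolynomial ι A) B z
    have hw : w ∈ Submodule.span B (Set.range fun i => KaehlerDifferential.D A B (x i)) :=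
      h ▸ Submodule.mem_top
    induction hw using Submodule.span_induction with
    | mem z hz =>
      obtain ⟨i, rfl⟩ := hz
      rw [KaehlerDifferential.map_D, Algebra.algebraMap_self, RingHom.id_apply,
        show x i = algebraMap (MvPolynomial ι A) B (MvPolynomial.X i) from
          (MvPolynomial.aeval_X x i).symm]
      exact Derivation.map_algebraMap _ _
    | zero => simp
    | add a b _ _ ha hb => rw [map_add, ha, hb, add_zero]
    | smul c a _ ha => rw [map_smul, ha, smul_zero]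
  rw [key a, key b]

theorem quasiFiniteAt_Spec_map {R S : CommRingCat.{u}} (φ : R ⟶ S) (q : PrimeSpectrum S)
    (h : (Localization.localRingHom (q.comap φ.hom).asIdeal q.asIdeal φ.hom rfl).QuasiFinite) :
    (Spec.map φ).QuasiFiniteAt q :=
  (RingHom.QuasiFinite.respectsIso.arrow_mk_iso_iff (Scheme.arrowStalkMapSpecIso φ q)).2 h

theorem good_Spec_map {R S : CommRingCat.{u}} (φ : R ⟶ S) (q : PrimeSpectrum S)
    (h₁ : (Localization.localRingHom (q.comap φ.hom).asIdeal q.asIdeal φ.hom rfl).Flat)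
    (h₂ : (Localization.localRingHom (q.comap φ.hom).asIdeal q.asIdeal φ.hom rfl).QuasiFinite) :
    Good (Spec.map φ) q :=
  ⟨(RingHom.Flat.respectsIso.arrow_mk_iso_iff (Scheme.arrowStalkMapSpecIso φ q)).2 h₁,
    quasiFiniteAt_Spec_map φ q h₂⟩

theorem good_comp_isOpenImmersion {X Y Z : Scheme.{u}} {f : X ⟶ Y} {x : X} (hf : Good f x) (j : Y ⟶ Z)
    [IsOpenImmersion j] : Good (f ≫ j) x := by
  refine ⟨?_, (Scheme.Hom.quasiFiniteAt_comp_iff).2 hf.2⟩
  simp only [Scheme.Hom.stalkMap_comp, CommRingCat.hom_comp]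
  exact (RingHom.Flat.respectsIso.cancel_left_isIso _ _).2 hf.1

/-- Flat quasi-finite coordinates at some point of the fibre of `s` through `r`. -/
theorem exists_coords {R U S : Scheme.{u}} (π : U ⟶ S) (s t : R ⟶ U) (h : s ≫ π = t ≫ π)
    [Flat s] [LocallyOfFinitePresentation s] (hu : FormallyUnramified (pullback.lift s t h)) (r : R)
    (hr : s r = t r) :
    ∃ (κ : Type u) (_ : Finite κ) (V : U.Opens)
      (F : V.toScheme ⟶ Spec (CommRingCat.of (MvPolynomial κ (ULift.{u} ℤ))))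
      (W : Scheme.{u}) (i : W ⟶ R) (tV : W ⟶ V.toScheme) (G : W ⟶ AffineSpace κ U) (w : W),
      IsOpenImmersion i ∧ tV ≫ V.ι = i ≫ t ∧ G ≫ (AffineSpace κ U ↘ U) = i ≫ s ∧
      G ≫ AffineSpace.toSpecMvPoly κ U = tV ≫ F ∧
      Good G w ∧ s (i w) = s r := by
  obtain ⟨A₀, hA₀, hmA, -⟩ := exists_isAffineOpen_mem_and_subset (x := π (s r)) (U := (⊤ : S.Opens))
    trivial
  obtain ⟨V, hV, hmV, hVA⟩ := exists_isAffineOpen_mem_and_subset (x := s r) (U := π ⁻¹ᵁ A₀) hmA
  obtain ⟨W₀, hW₀, hmW, hWV⟩ := exists_isAffineOpen_mem_and_subset (x := r)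
    (U := s ⁻¹ᵁ V ⊓ t ⁻¹ᵁ V) (show r ∈ s ⁻¹ᵁ V ⊓ t ⁻¹ᵁ V from ⟨hmV, show t r ∈ V from hr ▸ hmV⟩)
  have hWs : W₀ ≤ s ⁻¹ᵁ V := fun x hx => (hWV hx).1
  have hWt : W₀ ≤ t ⁻¹ᵁ V := fun x hx => (hWV hx).2
  have hVA' : V ≤ π ⁻¹ᵁ A₀ := hVA
  let φπ := π.appLE A₀ V hVA'
  let φs := s.appLE V W₀ hWs
  let φt := t.appLE V W₀ hWt
  have hst : φπ ≫ φs = φπ ≫ φt := by
    simp only [φπ, φs, φt, Scheme.Hom.appLE_comp_appLE]
    congr 1
  let _ : Algebra Γ(S, A₀) Γ(U, V) := φπ.hom.toAlgebra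
  let _ : Algebra Γ(U, V) Γ(R, W₀) := φs.hom.toAlgebra
  let σ : Γ(U, V) ⊗[Γ(S, A₀)] Γ(U, V) →+* Γ(R, W₀) :=
    letI : Algebra Γ(S, A₀) Γ(R, W₀) := (φπ ≫ φs).hom.toAlgebra
    (Algebra.TensorProduct.lift (A := Γ(U, V)) (B := Γ(U, V)) (C := Γ(R, W₀))
      ({ φs.hom with commutes' := fun _ => rfl } : Γ(U, V) →ₐ[Γ(S, A₀)] Γ(R, W₀))
      ({ φt.hom with commutes' := fun a => (RingHom.congr_fun (congrArg CommRingCat.Hom.hom hst) a).symm } :
        Γ(U, V) →ₐ[Γ(S, A₀)] Γ(R, W₀)) fun _ _ => Commute.all _ _).toRingHom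
  have hσl : σ.comp Algebra.TensorProduct.includeLeftRingHom = φs.hom := RingHom.ext fun b => by
    simp [σ]
  have hσr : σ.comp (Algebra.TensorProduct.includeRight (R := Γ(S, A₀)) (A := Γ(U, V))
      (B := Γ(U, V))).toRingHom = φt.hom := RingHom.ext fun b => by simp [σ]
  let _ : Algebra (Γ(U, V) ⊗[Γ(S, A₀)] Γ(U, V)) Γ(R, W₀) := σ.toAlgebra
  have : IsScalarTower Γ(U, V) (Γ(U, V) ⊗[Γ(S, A₀)] Γ(U, V)) Γ(R, W₀) :=
    IsScalarTower.of_algebraMap_eq fun b => (RingHom.congr_fun hσl b).symm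
  have : Algebra.FinitePresentation Γ(U, V) Γ(R, W₀) :=
    HasRingHomProperty.appLE (P := @LocallyOfFinitePresentation) s inferInstance ⟨V, hV⟩ ⟨W₀, hW₀⟩ hWs
  have : Module.Flat Γ(U, V) Γ(R, W₀) :=
    HasRingHomProperty.appLE (P := @Flat) s inferInstance ⟨V, hV⟩ ⟨W₀, hW₀⟩ hWs
  have hgen : Algebra.adjoin Γ(U, V) (Set.range fun b : Γ(U, V) => (1 : Γ(U, V)) ⊗ₜ[Γ(S, A₀)] b) = ⊤ := by
    rw [eq_top_iff]
    intro x hx'
    clear hx'
    induction x with
    | zero => exact zero_mem _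
    | add x y hx hy => exact add_mem hx hy
    | tmul a b =>
      have : a ⊗ₜ[Γ(S, A₀)] b = algebraMap Γ(U, V) (Γ(U, V) ⊗[Γ(S, A₀)] Γ(U, V)) a * (1 ⊗ₜ b) := by
        simp [Algebra.TensorProduct.algebraMap_apply]
      rw [this]
      exact mul_mem (Subalgebra.algebraMap_mem _ _) (Algebra.subset_adjoin ⟨b, rfl⟩)
  have hfu : Algebra.FormallyUnramified (Γ(U, V) ⊗[Γ(S, A₀)] Γ(U, V)) Γ(R, W₀) := by
    have hA : Spec.map (CommRingCat.ofHom (algebraMap Γ(S, A₀) Γ(U, V))) ≫ hA₀.fromSpec =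
        hV.fromSpec ≫ π := IsAffineOpen.SpecMap_appLE_fromSpec π hA₀ hV hVA'
    let c := (pullbackSpecIso Γ(S, A₀) Γ(U, V) Γ(U, V)).inv ≫
      pullback.map _ _ π π hV.fromSpec hV.fromSpec hA₀.fromSpec hA hA
    have e : Spec.map (CommRingCat.ofHom σ) ≫ c = hW₀.fromSpec ≫ pullback.lift s t h := by
      apply pullback.hom_ext
      · simp only [c, Category.assoc, pullback.lift_fst, pullback.lift_fst_assoc,
          pullbackSpecIso_inv_fst_assoc, ← Spec.map_comp_assoc, ← CommRingCat.ofHom_comp, hσl]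
        exact IsAffineOpen.SpecMap_appLE_fromSpec s hV hW₀ hWs
      · simp only [c, Category.assoc, pullback.lift_snd, pullback.lift_snd_assoc,
          pullbackSpecIso_inv_snd_assoc, ← Spec.map_comp_assoc, ← CommRingCat.ofHom_comp]
        erw [hσr]
        exact IsAffineOpen.SpecMap_appLE_fromSpec t hV hW₀ hWt
    have : FormallyUnramified (Spec.map (CommRingCat.ofHom σ) ≫ c) := by
      rw [e]
      exact (HasRingHomProperty.instIsZariskiLocalAtSource (P := @FormallyUnramified)).comp hu hW₀.fromSpec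
    have := FormallyUnramified.of_comp (Spec.map (CommRingCat.ofHom σ)) c
    exact RingHom.formallyUnramified_algebraMap.1 ((HasRingHomProperty.Spec_iff (P := @FormallyUnramified)).1 this)
  -- finitely many functions suffice
  have hspan := Slicing.Alg.span_D_eq_top (B := Γ(U, V)) (A := Γ(U, V) ⊗[Γ(S, A₀)] Γ(U, V))
    (C := Γ(R, W₀)) (fun b : Γ(U, V) => (1 : Γ(U, V)) ⊗ₜ[Γ(S, A₀)] b) hgen
  have hΩ : (⊤ : Submodule Γ(R, W₀) Ω[Γ(R, W₀)⁄Γ(U, V)]).FG := Module.Finite.fg_top
  rw [← hspan] at hΩ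
  obtain ⟨T, hT, hTspan⟩ := (Submodule.fg_span_iff_fg_span_finset_subset _).1 hΩ
  choose a₀ ha₀ using fun z : T => hT z.2
  have hx : Submodule.span Γ(R, W₀) (Set.range fun z : T =>
      KaehlerDifferential.D Γ(U, V) Γ(R, W₀) (φt.hom (a₀ z))) = ⊤ := by
    rw [← hspan, hTspan]
    congr 1
    ext z
    constructor
    · rintro ⟨z, rfl⟩
      dsimp only
      have := ha₀ z
      rw [← RingHom.congr_fun hσr (a₀ z)]
      have h2 := z.2
      rw [← this] at h2
      exact h2
    · intro hz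
      exact ⟨⟨z, hz⟩, by
        dsimp only
        rw [← RingHom.congr_fun hσr (a₀ ⟨z, hz⟩)]
        exact ha₀ ⟨z, hz⟩⟩
  let p := (hV.primeIdealOf ⟨s r, hmV⟩)
  have hpr : Spec.map φs (hW₀.primeIdealOf ⟨r, hmW⟩) = p := by
    apply hV.fromSpec.isOpenEmbedding.injective
    rw [← Scheme.Hom.comp_apply, IsAffineOpen.SpecMap_appLE_fromSpec s hV hW₀ hWs,
      Scheme.Hom.comp_apply, hW₀.fromSpec_primeIdealOf, hV.fromSpec_primeIdealOf]
  obtain ⟨κ, hκ, a, q, hqp, hq, hflat, hqf⟩ := SliceAlg.exists_flat_quasiFinite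
    (fun z : T => φt.hom (a₀ z)) (formallyUnramified_aeval _ hx) p.asIdeal
    ⟨(hW₀.primeIdealOf ⟨r, hmW⟩).asIdeal, inferInstance, congrArg PrimeSpectrum.asIdeal hpr⟩
  let b : κ → Γ(U, V) := a₀ ∘ a
  let θ : CommRingCat.of (MvPolynomial κ Γ(U, V)) ⟶ Γ(R, W₀) :=
    CommRingCat.ofHom (MvPolynomial.aeval (R := Γ(U, V)) fun i => φt.hom (b i)).toRingHom
  let w : Spec Γ(R, W₀) := ⟨q, hqp⟩
  have hgood : Good (Spec.map θ) w := good_Spec_map θ w hflat hqf
  let P : CommRingCat.of (MvPolynomial κ (ULift.{u} ℤ)) ⟶ Γ(U, V) := CommRingCat.ofHom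
    (MvPolynomial.eval₂Hom ((algebraMap ℤ Γ(U, V)).comp ULift.ringEquiv.toRingHom) b)
  have : IsOpenImmersion (AffineSpace.map κ hV.fromSpec) :=
    MorphismProperty.of_isPullback (P := @IsOpenImmersion) (AffineSpace.isPullback_map hV.fromSpec).flip
      inferInstance
  let M := (AffineSpace.SpecIso κ Γ(U, V)).inv ≫ AffineSpace.map κ hV.fromSpec
  let tV : Spec Γ(R, W₀) ⟶ V.toScheme := Spec.map φt ≫ hV.isoSpec.inv
  refine ⟨κ, hκ, V, hV.isoSpec.hom ≫ Spec.map P, _, hW₀.fromSpec, tV, Spec.map θ ≫ M, w,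
    inferInstance, ?_, ?_, ?_, good_comp_isOpenImmersion hgood M, ?_⟩
  · simp only [tV, Category.assoc, IsAffineOpen.isoSpec_inv_ι]
    exact IsAffineOpen.SpecMap_appLE_fromSpec t hV hW₀ hWt
  · simp only [M, Category.assoc, AffineSpace.map_over, AffineSpace.SpecIso_inv_over_assoc]
    rw [← Spec.map_comp_assoc]
    have : CommRingCat.ofHom (MvPolynomial.C (σ := κ)) ≫ θ = φs :=
      CommRingCat.hom_ext (RingHom.ext fun z => MvPolynomial.aeval_C _ z)
    rw [this]
    exact IsAffineOpen.SpecMap_appLE_fromSpec s hV hW₀ hWs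
  · rw [show tV ≫ hV.isoSpec.hom ≫ Spec.map P = Spec.map (P ≫ φt) by
      simp [tV, Spec.map_comp]]
    apply (AffineSpace.toSpecMvPolyIntEquiv κ).injective
    ext j
    rw [AffineSpace.toSpecMvPolyIntEquiv_comp]
    change (Spec.map θ ≫ M).appTop (AffineSpace.coord U j) =
      (Spec.map (P ≫ φt)).appTop ((Scheme.ΓSpecIso _).inv (.X j))
    conv_rhs => rw [← CommRingCat.comp_apply, ← Scheme.ΓSpecIso_inv_naturality, CommRingCat.comp_apply]
    simp only [M, Scheme.Hom.comp_appTop, CommRingCat.comp_apply, AffineSpace.map_appTop_coord,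
      AffineSpace.SpecIso_inv_appTop_coord]
    rw [← CommRingCat.comp_apply, ← Scheme.ΓSpecIso_inv_naturality, CommRingCat.comp_apply]
    congr 1
    change MvPolynomial.aeval _ (MvPolynomial.X j) = φt (MvPolynomial.eval₂ _ b (MvPolynomial.X j))
    rw [MvPolynomial.aeval_X, MvPolynomial.eval₂_X]
  · have hw : Spec.map φs w = p := PrimeSpectrum.ext hq
    rw [← Scheme.Hom.comp_apply, ← IsAffineOpen.SpecMap_appLE_fromSpec s hV hW₀ hWs,
      Scheme.Hom.comp_apply, hw, hV.fromSpec_primeIdealOf]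

theorem isPullback_comp_mono {C : Type*} [Category C] {P X Y Z W : C} {a : P ⟶ X} {b : P ⟶ Y}
    {f : X ⟶ Z} {g : Y ⟶ Z} (sq : IsPullback a b f g) (i : Z ⟶ W) [Mono i] :
    IsPullback a b (f ≫ i) (g ≫ i) := by
  have w : ∀ c : PullbackCone (f ≫ i) (g ≫ i), c.fst ≫ f = c.snd ≫ g := fun c =>
    (cancel_mono i).1 (by simpa using c.condition)
  exact IsPullback.of_isLimit' ⟨by rw [reassoc_of% sq.w]⟩ (PullbackCone.IsLimit.mk _
    (fun c => sq.lift c.fst c.snd (w c)) (fun c => sq.lift_fst _ _ _) (fun c => sq.lift_snd _ _ _)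
    fun c l h1 h2 => sq.hom_ext (by simpa using h1) (by simpa using h2))

theorem locallyOfFiniteType_terminal_from_mvPoly {κ : Type u} [Finite κ] :
    LocallyOfFiniteType (terminal.from (Spec (CommRingCat.of (MvPolynomial κ (ULift.{u} ℤ))))) := by
  have : LocallyOfFiniteType (Spec.map (CommRingCat.ofHom
      (algebraMap (ULift.{u} ℤ) (MvPolynomial κ (ULift.{u} ℤ))))) :=
    (HasRingHomProperty.Spec_iff (P := @LocallyOfFiniteType)).2
      (RingHom.finiteType_algebraMap.2 inferInstance)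
  have : IsIso (terminal.from (Spec (CommRingCat.of (ULift.{u} ℤ)))) :=
    (specULiftZIsTerminal.uniqueUpToIso terminalIsTerminal).isIso_hom
  rw [Subsingleton.elim (terminal.from (Spec (CommRingCat.of (MvPolynomial κ (ULift.{u} ℤ)))))
    (Spec.map (CommRingCat.ofHom (algebraMap (ULift.{u} ℤ) (MvPolynomial κ (ULift.{u} ℤ)))) ≫
      terminal.from (Spec (CommRingCat.of (ULift.{u} ℤ))))]
  infer_instance

/-- A slice: after restricting along some `g : U' ⟶ U`, the map through `s` is flat and quasi-finite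
at some point over `s r`. -/
theorem exists_slice {R U S : Scheme.{u}} (π : U ⟶ S) (s t : R ⟶ U) (h : s ≫ π = t ≫ π)
    [Flat s] [LocallyOfFinitePresentation s] (hu : FormallyUnramified (pullback.lift s t h)) (r : R)
    (hr : s r = t r) :
    ∃ (U' : Scheme.{u}) (g : U' ⟶ U) (_ : LocallyOfFinitePresentation g) (x : ↥(pullback g t)),
      Good (pullback.snd g t ≫ s) x ∧ (pullback.snd g t ≫ s) x = s r := by
  obtain ⟨κ, hκ, V, F, W, i, tV, G, w, hi, htV, hGs, hGt, hgood, hw⟩ := exists_coords π s t h hu r hr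
  have : LocallyOfFinitePresentation (G ≫ (AffineSpace κ U ↘ U)) := by rw [hGs]; infer_instance
  have := Flat55.FibreTransfer.locallyOfFinitePresentation_of_comp this inferInstance
  let Ω := locus G
  have := flat_of_le_good G Ω fun _ hx => hx
  have := lqf_of_le_good G Ω fun _ hx => hx
  let O : (AffineSpace κ U).Opens := ⟨Set.range (Ω.ι ≫ G), (Ω.ι ≫ G).isOpenMap.isOpen_range⟩
  obtain ⟨B, Gm, o', hB, ⟨w', hw'⟩, hover, ⟨b, hb⟩⟩ :=
    Slicing.Rational.exists_etale_point O (G w) ⟨⟨w, hgood⟩, rfl⟩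
  have : LocallyOfFinitePresentation Gm := by
    have := locallyOfFiniteType_terminal_from_mvPoly (κ := κ)
    have hc : Gm ≫ terminal.from _ = terminal.from _ := terminal.hom_ext _ _
    exact Flat55.FibreTransfer.locallyOfFinitePresentation_of_comp
      (g := terminal.from (Spec (CommRingCat.of (MvPolynomial κ (ULift.{u} ℤ)))))
      (by rw [hc]; infer_instance) this
  let g := pullback.fst F Gm ≫ V.ι
  let q := pullback.fst (AffineSpace.toSpecMvPoly κ U) Gm
  let Z := pullback (Ω.ι ≫ G) q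
  -- `U × Spec B ⟶ U` is flat and quasi-finite
  have hY : IsPullback (q ≫ (AffineSpace κ U ↘ U)) (pullback.snd (AffineSpace.toSpecMvPoly κ U) Gm)
      (terminal.from U) (terminal.from (Spec B)) := by
    have h1 : IsPullback (AffineSpace κ U ↘ U) (AffineSpace.toSpecMvPoly κ U) (terminal.from U)
        (terminal.from _) := IsPullback.of_hasPullback _ _
    have h2 := (IsPullback.of_hasPullback (AffineSpace.toSpecMvPoly κ U) Gm).flip.paste_vert h1.flip
    rw [terminal.hom_ext (Gm ≫ terminal.from _) (terminal.from (Spec B))] at h2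
    exact h2.flip
  have hlqf : LocallyQuasiFinite (terminal.from (Spec B)) :=
    SourceDescent.Scheme.locallyQuasiFinite_of_etale _
  have : LocallyQuasiFinite (q ≫ (AffineSpace κ U ↘ U)) := MorphismProperty.of_isPullback hY.flip hlqf
  have : Flat (q ≫ (AffineSpace κ U ↘ U)) :=
    MorphismProperty.of_isPullback hY.flip (inferInstance : Flat (terminal.from (Spec B)))
  -- `Z` is an open piece of the slice
  let z₁ : Z ⟶ W := pullback.fst (Ω.ι ≫ G) q ≫ Ω.ι
  have hm : (z₁ ≫ tV) ≫ F =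
      (pullback.snd (Ω.ι ≫ G) q ≫ pullback.snd (AffineSpace.toSpecMvPoly κ U) Gm) ≫ Gm := by
    simp only [z₁, Category.assoc, ← hGt]
    rw [reassoc_of% pullback.condition (f := Ω.ι ≫ G) (g := q)]
    simp [q, pullback.condition]
  let m : Z ⟶ pullback F Gm := pullback.lift _ _ hm
  have sqa : IsPullback m (pullback.fst (Ω.ι ≫ G) q) (pullback.fst F Gm) (Ω.ι ≫ tV) := by
    refine IsPullback.of_right ?_ ?_ (IsPullback.of_hasPullback F Gm).flip
    · rw [pullback.lift_snd, Category.assoc, ← hGt, ← Category.assoc]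
      exact (IsPullback.of_hasPullback (Ω.ι ≫ G) q).flip.paste_horiz
        (IsPullback.of_hasPullback (AffineSpace.toSpecMvPoly κ U) Gm).flip
    · simp [m, z₁]
  have sqb : IsPullback m (pullback.fst (Ω.ι ≫ G) q) g (Ω.ι ≫ i ≫ t) := by
    have := isPullback_comp_mono sqa V.ι
    simpa [g, Category.assoc, htV] using this
  let k : Z ⟶ pullback g t :=
    pullback.lift m (pullback.fst (Ω.ι ≫ G) q ≫ Ω.ι ≫ i) (by simpa [Category.assoc] using sqb.w)
  have sqk : IsPullback k (pullback.fst (Ω.ι ≫ G) q) (pullback.snd g t) (Ω.ι ≫ i) := by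
    refine IsPullback.of_right ?_ (pullback.lift_snd _ _ _) (IsPullback.of_hasPullback g t)
    rw [pullback.lift_fst, Category.assoc]
    exact sqb
  have : IsOpenImmersion k := MorphismProperty.of_isPullback sqk.flip
    (inferInstance : IsOpenImmersion (Ω.ι ≫ i))
  have hk : k ≫ pullback.snd g t ≫ s = pullback.snd (Ω.ι ≫ G) q ≫ q ≫ (AffineSpace κ U ↘ U) := by
    rw [pullback.lift_snd_assoc, ← pullback.condition_assoc]
    simp [hGs]
  obtain ⟨y, hy, -⟩ := Scheme.Pullback.exists_preimage_pullback o' b hb.symm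
  obtain ⟨z, -, hzy⟩ := Scheme.Pullback.exists_preimage_pullback w' y (hw'.trans hy.symm)
  refine ⟨_, g, inferInstance, k z, ?_, ?_⟩
  · rw [← good_comp_iff_of_isOpenImmersion, hk]
    exact good_of _ _
  · rw [← Scheme.Hom.comp_apply, hk]
    simp only [Scheme.Hom.comp_apply, hzy]
    rw [show pullback.snd (Ω.ι ≫ G) q z = y from hzy, show q y = o' from hy, hover, ← Scheme.Hom.comp_apply, hGs, Scheme.Hom.comp_apply, hw]

end Groth.Agent.Lib.Bootstrap
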