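import Groth.Agent.Lib.Bootstrap.SliceLocal

/-!
# Artin's slice for a locally quasi-finite pair of arrows
-/

set_option autoImplicit false
set_option linter.style.haveILetI false
set_option backward.isDefEq.respectTransparency false
set_option backward.isDefEq.respectTransparency.types false

universe u

namespace Groth.Agent.Lib.Bootstrap.SliceLqf

section Alg

open TensorProduct MvPolynomial Groth.Agent.Lib.Bootstrap.SliceAlg

variable {A B : Type u} [CommRing A] [CommRing B] [Algebra A B] {ι : Type u}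

/-- Finitely many coordinates of a quasi-finite family suffice over a prime. -/
theorem exists_finite [Algebra.FiniteType A B] (x : ι → B) (hu : (aeval (R := A) x).toRingHom.QuasiFinite)
    (q : Ideal B) [q.IsPrime] :
    ∃ T : Set ι, Finite T ∧ ∀ Q : Ideal B, Q.IsPrime → q ≤ Q →
      Q.comap (aeval (R := A) (x ∘ (Subtype.val : T → ι))).toRingHom =
        q.comap (aeval (R := A) (x ∘ (Subtype.val : T → ι))).toRingHom → Q = q := by
  classical
  let ψ : MvPolynomial ι A →ₐ[A] B := aeval x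
  let : Algebra (MvPolynomial ι A) B := ψ.toRingHom.toAlgebra
  have : Algebra.QuasiFinite (MvPolynomial ι A) B := hu
  let P := q.comap ψ.toRingHom
  haveI : q.LiesOver P := ⟨rfl⟩
  let := Localization.AtPrime.algebraOfLiesOver P q
  have : Module.Finite P.ResidueField q.ResidueField := inferInstance
  letI : Algebra (MvPolynomial ι A ⧸ P) q.ResidueField :=
    ((algebraMap P.ResidueField q.ResidueField).comp (algebraMap (MvPolynomial ι A ⧸ P) P.ResidueField)).toAlgebra
  have : IsScalarTower (MvPolynomial ι A ⧸ P) P.ResidueField q.ResidueField :=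
    IsScalarTower.of_algebraMap_eq fun _ => rfl
  have key : ∀ z : B, ∃ g : Polynomial (MvPolynomial ι A), (∃ m, g.coeff m ∉ P) ∧
      Polynomial.eval₂ ψ.toRingHom z g ∈ q := fun z => by
    have h : IsAlgebraic P.ResidueField (algebraMap B q.ResidueField z) := Algebra.IsAlgebraic.isAlgebraic _
    rw [← IsFractionRing.isAlgebraic_iff (MvPolynomial ι A ⧸ P) P.ResidueField q.ResidueField] at h
    obtain ⟨g', hg0, hg⟩ := h
    obtain ⟨g, rfl⟩ := Polynomial.map_surjective _ Ideal.Quotient.mk_surjective g'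
    refine ⟨g, ?_, ?_⟩
    · obtain ⟨m, hm⟩ := Polynomial.support_nonempty.2 hg0
      refine ⟨m, fun hmP => ?_⟩
      rw [Polynomial.mem_support_iff, Polynomial.coeff_map] at hm
      exact hm (Ideal.Quotient.eq_zero_iff_mem.2 hmP)
    · rw [← Ideal.algebraMap_residueField_eq_zero, Polynomial.hom_eval₂]
      rw [Polynomial.aeval_def, Polynomial.eval₂_map] at hg
      have e : (algebraMap (MvPolynomial ι A ⧸ P) q.ResidueField).comp (Ideal.Quotient.mk P) =
          (algebraMap B q.ResidueField).comp ψ.toRingHom := RingHom.ext fun c => by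
        change algebraMap P.ResidueField q.ResidueField (algebraMap (MvPolynomial ι A) P.ResidueField c) =
          algebraMap B q.ResidueField (ψ c)
        rw [← IsScalarTower.algebraMap_apply, IsScalarTower.algebraMap_apply (MvPolynomial ι A) B q.ResidueField]
        rfl
      rw [e] at hg
      exact hg
  obtain ⟨G, hG⟩ := Algebra.FiniteType.out (R := A) (A := B)
  choose g hgm hgq using key
  let T : Set ι := ↑(G.biUnion fun z => (g z).support.biUnion fun m => ((g z).coeff m).vars)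
  refine ⟨T, (Finset.finite_toSet _).to_subtype, fun Q hQ hle hc => le_antisymm (fun f hf => ?_) hle⟩
  by_contra hfq
  let D := B ⧸ q
  let y : T → D := fun i => Ideal.Quotient.mk q (x i)
  let S₁ := Algebra.adjoin A (Set.range y)
  let d : D := Ideal.Quotient.mk q f
  have hd0 : d ≠ 0 := fun h => hfq (Ideal.Quotient.eq_zero_iff_mem.1 h)
  have hev : ∀ c : MvPolynomial T A,
      Ideal.Quotient.mk q (aeval (R := A) (x ∘ (Subtype.val : T → ι)) c) = aeval y c := fun c => by
    rw [← Ideal.Quotient.mkₐ_eq_mk A, ← AlgHom.comp_apply, comp_aeval]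
    rfl
  have hmem : ∀ c : MvPolynomial ι A, ↑c.vars ⊆ T → Ideal.Quotient.mk q (ψ c) ∈ S₁ := fun c hc => by
    obtain ⟨c', rfl⟩ := exists_rename_eq_of_vars_subset_range c (Subtype.val : T → ι) Subtype.val_injective
      (by rwa [Subtype.range_coe])
    rw [show ψ (rename _ c') = aeval (x ∘ (Subtype.val : T → ι)) c' from aeval_rename _ _ _, hev]
    change aeval y c' ∈ Algebra.adjoin A (Set.range y)
    rw [Algebra.adjoin_range_eq_range_aeval]
    exact ⟨c', rfl⟩
  have halg : ∀ z ∈ G, IsAlgebraic S₁ (Ideal.Quotient.mk q z) := fun z hz => by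
    let χ : MvPolynomial ι A →+* D := (Ideal.Quotient.mk q).comp ψ.toRingHom
    have hsup : ∀ m, ((g z).map χ).coeff m ∈ S₁ := fun m => by
      rw [Polynomial.coeff_map]
      by_cases hm : m ∈ (g z).support
      · exact hmem _ fun i hi => Finset.mem_coe.2 (Finset.mem_biUnion.2 ⟨z, hz, Finset.mem_biUnion.2 ⟨m, hm, hi⟩⟩)
      · rw [Polynomial.notMem_support_iff.1 hm, map_zero]
        exact zero_mem _
    obtain ⟨g₁, hg₁⟩ : ∃ g₁ : Polynomial S₁, g₁.map (algebraMap S₁ D) = (g z).map χ :=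
      (Polynomial.mem_lifts _).1 ((Polynomial.lifts_iff_coeff_lifts _).2 fun m => ⟨⟨_, hsup m⟩, rfl⟩)
    refine ⟨g₁, fun h0 => ?_, ?_⟩
    · obtain ⟨m, hm⟩ := hgm z
      have h1 : ((g z).map χ).coeff m = 0 := by rw [← hg₁, h0]; simp
      rw [Polynomial.coeff_map] at h1
      exact hm (show ψ ((g z).coeff m) ∈ q from Ideal.Quotient.eq_zero_iff_mem.1 h1)
    · rw [Polynomial.aeval_def, Polynomial.eval₂_eq_eval_map, hg₁, ← Polynomial.eval₂_eq_eval_map,
        ← Polynomial.hom_eval₂]
      exact Ideal.Quotient.eq_zero_iff_mem.2 (hgq z)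
  have hdalg : IsAlgebraic S₁ d := by
    refine IsAlgebraic.adjoin_of_forall_isAlgebraic (s := Ideal.Quotient.mk q '' ↑G) (t := Set.range y) ?_ ?_
    · rintro _ ⟨⟨z, hz, rfl⟩, -⟩
      exact halg z hz
    · have h1 : d ∈ (Algebra.adjoin A (↑G : Set B)).map (Ideal.Quotient.mkₐ A q) := ⟨f, hG ▸ Algebra.mem_top, rfl⟩
      rw [AlgHom.map_adjoin] at h1
      exact isAlgebraic_algebraMap (⟨d, h1⟩ : Algebra.adjoin A (Ideal.Quotient.mk q '' (↑G : Set B)))
  let Q' : Ideal D := Q.map (Ideal.Quotient.mk q)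
  obtain ⟨⟨c, hcS⟩, hcQ, hc0⟩ := Submodule.exists_mem_ne_zero_of_ne_bot
    (Ideal.comap_ne_bot_of_algebraic_mem (I := Q') hd0 (Ideal.mem_map_of_mem _ hf) hdalg)
  have hcS' : c ∈ Algebra.adjoin A (Set.range y) := hcS
  rw [Algebra.adjoin_range_eq_range_aeval] at hcS'
  obtain ⟨c₀, rfl⟩ := hcS'
  change aeval y c₀ ∈ Q' at hcQ
  rw [← hev, Ideal.mem_map_iff_of_surjective _ Ideal.Quotient.mk_surjective] at hcQ
  obtain ⟨c', hc', hcc'⟩ := hcQ
  have hcQ₀ : aeval (R := A) (x ∘ (Subtype.val : T → ι)) c₀ ∈ Q := by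
    have := Q.sub_mem hc' (hle (Ideal.Quotient.eq.1 hcc'))
    simpa using this
  have : c₀ ∈ q.comap (aeval (R := A) (x ∘ (Subtype.val : T → ι))).toRingHom := hc ▸ hcQ₀
  refine hc0 (Subtype.ext ?_)
  change aeval y c₀ = 0
  rw [← hev]
  exact Ideal.Quotient.eq_zero_iff_mem.2 this

set_option synthInstance.maxHeartbeats 200000 in
/-- Flat quasi-finite coordinates in each non-empty fibre. -/
theorem exists_flat_quasiFinite [Algebra.FinitePresentation A B] [Module.Flat A B]
    (x : ι → B) (hu : (aeval (R := A) x).toRingHom.QuasiFinite) (p : Ideal A) [p.IsPrime]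
    (hp : ∃ q : Ideal B, q.IsPrime ∧ q.comap (algebraMap A B) = p) :
    ∃ (κ : Type u) (_ : Finite κ) (a : κ → ι) (q : Ideal B) (_ : q.IsPrime),
      q.comap (algebraMap A B) = p ∧
      (Localization.localRingHom (q.comap (aeval (R := A) (x ∘ a)).toRingHom) q
        (aeval (R := A) (x ∘ a)).toRingHom rfl).Flat ∧
      (Localization.localRingHom (q.comap (aeval (R := A) (x ∘ a)).toRingHom) q
        (aeval (R := A) (x ∘ a)).toRingHom rfl).QuasiFinite := by
  obtain ⟨q, b, hqp, hq, hbq, hb⟩ := exists_minimal p hp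
  obtain ⟨T, hT, hTq⟩ := exists_finite x hu q
  have : Finite T := hT
  obtain ⟨s, hs, hsQ⟩ := exists_indep (x ∘ (Subtype.val : T → ι)) p q hq
  refine ⟨s, inferInstance, fun i => i.1.1, q, hqp, hq, ?_⟩
  let φ : MvPolynomial s A →ₐ[A] B := aeval (R := A) ((x ∘ (Subtype.val : T → ι)) ∘ Subtype.val : s → B)
  let P := q.comap φ.toRingHom
  have hP : P = p.map C := le_antisymm (fun g hg => hs g hg) (by
    rw [Ideal.map_le_iff_le_comap, ← hq]
    intro a ha
    simpa [P, φ] using ha)
  let : Algebra (MvPolynomial s A) B := φ.toRingHom.toAlgebra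
  have : IsScalarTower A (MvPolynomial s A) B := IsScalarTower.of_algebraMap_eq' φ.comp_algebraMap.symm
  have : Algebra.FiniteType (MvPolynomial s A) B :=
    Algebra.FiniteType.of_restrictScalars_finiteType A (MvPolynomial s A) B
  haveI : q.LiesOver p := ⟨hq.symm⟩
  haveI : q.LiesOver P := ⟨rfl⟩
  let := Localization.AtPrime.algebraOfLiesOver P q
  let := Localization.AtPrime.algebraOfLiesOver p q
  have hcm : φ.toRingHom.comp (algebraMap A (MvPolynomial s A)) = algebraMap A B := φ.comp_algebraMap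
  haveI : P.LiesOver p := ⟨by rw [Ideal.under, Ideal.comap_comap, hcm, hq]⟩
  let := Localization.AtPrime.algebraOfLiesOver p P
  constructor
  · have hfib : Module.Flat (Localization.AtPrime P ⧸ (IsLocalRing.maximalIdeal (Localization.AtPrime p)).map
        (algebraMap (Localization.AtPrime p) (Localization.AtPrime P)))
        (Localization.AtPrime q ⧸ (IsLocalRing.maximalIdeal (Localization.AtPrime p)).map
          (algebraMap (Localization.AtPrime p) (Localization.AtPrime P)) •
            (⊤ : Submodule (Localization.AtPrime P) (Localization.AtPrime q))) := by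
      have hm : (IsLocalRing.maximalIdeal (Localization.AtPrime p)).map
          (algebraMap (Localization.AtPrime p) (Localization.AtPrime P)) =
            IsLocalRing.maximalIdeal (Localization.AtPrime P) := by
        rw [← Localization.AtPrime.map_eq_maximalIdeal (I := p),
          ← Localization.AtPrime.map_eq_maximalIdeal (I := P), Ideal.map_map,
          ← IsScalarTower.algebraMap_eq, IsScalarTower.algebraMap_eq A (MvPolynomial s A) _,
          ← Ideal.map_map]
        exact (congrArg (Ideal.map (algebraMap (MvPolynomial s A) (Localization.AtPrime P))) hP).symm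
      rw [hm]
      let := Ideal.Quotient.field (IsLocalRing.maximalIdeal (Localization.AtPrime P))
      infer_instance
    have : Module.Flat A (Localization.AtPrime q) := Module.Flat.trans A B (Localization.AtPrime q)
    have : Module.Flat (Localization.AtPrime p) (Localization.AtPrime q) :=
      (Module.flat_iff_of_isLocalization (Localization.AtPrime p) p.primeCompl _).2 inferInstance
    have := Flat55.Localized.flat_of_flat_fibre (R := A) (B := MvPolynomial s A) (C := B)
      (R' := Localization.AtPrime p) (B' := Localization.AtPrime P) (C' := Localization.AtPrime q)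
      p.primeCompl P.primeCompl q
      (fun r => by rw [← IsScalarTower.algebraMap_apply, ← IsScalarTower.algebraMap_apply])
      (fun z => by rw [← IsScalarTower.algebraMap_apply, ← IsScalarTower.algebraMap_apply])
      (Algebra.linearMap B (Localization.AtPrime q)) hfib
    exact RingHom.flat_algebraMap_iff.2 this
  · have hiso : ∀ Q : Ideal B, Q.IsPrime → Q.comap φ.toRingHom = P → b ∉ Q → Q = q := fun Q hQ hQP hbQ => by
      have hQp : Q.comap (algebraMap A B) = p := by
        rw [← φ.comp_algebraMap, ← Ideal.comap_comap]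
        change (Q.comap φ.toRingHom).comap _ = p
        rw [hQP, Ideal.comap_comap, hcm, hq]
      have hle := hb Q hQ hQp hbQ
      have hc := hsQ Q hQ hle fun g hg => hP ▸ hQP ▸ hg
      exact hTq Q hQ hle hc
    have : Algebra.QuasiFiniteAt (MvPolynomial s A) q := by
      refine Algebra.QuasiFiniteAt.of_isOpen_singleton_fiber ⟨q, hqp⟩ ?_
      convert (PrimeSpectrum.basicOpen b).isOpen.preimage continuous_subtype_val using 1
      ext ⟨⟨Q, hQ⟩, hQP⟩
      refine ⟨fun h => by rw [Set.mem_singleton_iff] at h; rw [h]; exact hbq, fun hbQ => ?_⟩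
      exact Subtype.ext (PrimeSpectrum.ext (hiso Q hQ (congrArg PrimeSpectrum.asIdeal hQP) hbQ))
    have : Algebra.QuasiFinite (Localization.AtPrime P) (Localization.AtPrime q) :=
      .of_restrictScalars (MvPolynomial s A) _ _
    exact RingHom.quasiFinite_algebraMap.2 this

end Alg

open CategoryTheory CategoryTheory.Limits AlgebraicGeometry TensorProduct Groth.Agent.Lib.Bootstrap

/-- Flat quasi-finite coordinates at some point of the fibre of `s` through `r`. -/
theorem exists_coords {R U S : Scheme.{u}} (π : U ⟶ S) (s t : R ⟶ U) (h : s ≫ π = t ≫ π)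
    [Flat s] [LocallyOfFinitePresentation s] (hu : LocallyQuasiFinite (pullback.lift s t h)) (r : R)
    (hr : s r = t r) :
    ∃ (κ : Type u) (_ : Finite κ) (V : U.Opens)
      (F : V.toScheme ⟶ Spec (CommRingCat.of (MvPolynomial κ (ULift.{u} ℤ))))
      (W : Scheme.{u}) (i : W ⟶ R) (tV : W ⟶ V.toScheme) (G : W ⟶ AffineSpace κ U) (w : W),
      IsOpenImmersion i ∧ tV ≫ V.ι = i ≫ t ∧ G ≫ (AffineSpace κ U ↘ U) = i ≫ s ∧
      G ≫ AffineSpace.toSpecMvPoly κ U = tV ≫ F ∧
      Good G w ∧ s (i w) = s r := by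
  obtain ⟨A₀, hA₀, hmA, -⟩ := exists_isAffineOpen_mem_and_subset (x := π (s r)) (U := (⊤ : S.Opens))
    trivial
  obtain ⟨V, hV, hmV, hVA⟩ := exists_isAffineOpen_mem_and_subset (x := s r) (U := π ⁻¹ᵁ A₀) hmA
  obtain ⟨W₀, hW₀, hmW, hWV⟩ := exists_isAffineOpen_mem_and_subset (x := r)
    (U := s ⁻¹ᵁ V ⊓ t ⁻¹ᵁ V) (show r ∈ s ⁻¹ᵁ V ⊓ t ⁻¹ᵁ V from ⟨hmV, show t r ∈ V from hr ▸ hmV⟩)
  have hWs : W₀ ≤ s ⁻¹ᵁ V := fun x hx => (hWV hx).1
  have hWt : W₀ ≤ t ⁻¹ᵁ V := fun x hx => (hWV hx).2
  have hVA' : V ≤ π ⁻¹ᵁ A₀ := hVA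
  let φπ := π.appLE A₀ V hVA'
  let φs := s.appLE V W₀ hWs
  let φt := t.appLE V W₀ hWt
  have hst : φπ ≫ φs = φπ ≫ φt := by
    simp only [φπ, φs, φt, Scheme.Hom.appLE_comp_appLE]
    congr 1
  let _ : Algebra Γ(S, A₀) Γ(U, V) := φπ.hom.toAlgebra
  let _ : Algebra Γ(U, V) Γ(R, W₀) := φs.hom.toAlgebra
  let σ : Γ(U, V) ⊗[Γ(S, A₀)] Γ(U, V) →+* Γ(R, W₀) :=
    letI : Algebra Γ(S, A₀) Γ(R, W₀) := (φπ ≫ φs).hom.toAlgebra
    (Algebra.TensorProduct.lift (A := Γ(U, V)) (B := Γ(U, V)) (C := Γ(R, W₀))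
      ({ φs.hom with commutes' := fun _ => rfl } : Γ(U, V) →ₐ[Γ(S, A₀)] Γ(R, W₀))
      ({ φt.hom with commutes' := fun a => (RingHom.congr_fun (congrArg CommRingCat.Hom.hom hst) a).symm } :
        Γ(U, V) →ₐ[Γ(S, A₀)] Γ(R, W₀)) fun _ _ => Commute.all _ _).toRingHom
  have hσl : σ.comp Algebra.TensorProduct.includeLeftRingHom = φs.hom := RingHom.ext fun b => by
    simp [σ]
  have hσr : σ.comp (Algebra.TensorProduct.includeRight (R := Γ(S, A₀)) (A := Γ(U, V))
      (B := Γ(U, V))).toRingHom = φt.hom := RingHom.ext fun b => by simp [σ]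
  let _ : Algebra (Γ(U, V) ⊗[Γ(S, A₀)] Γ(U, V)) Γ(R, W₀) := σ.toAlgebra
  have : IsScalarTower Γ(U, V) (Γ(U, V) ⊗[Γ(S, A₀)] Γ(U, V)) Γ(R, W₀) :=
    IsScalarTower.of_algebraMap_eq fun b => (RingHom.congr_fun hσl b).symm
  have : Algebra.FinitePresentation Γ(U, V) Γ(R, W₀) :=
    HasRingHomProperty.appLE (P := @LocallyOfFinitePresentation) s inferInstance ⟨V, hV⟩ ⟨W₀, hW₀⟩ hWs
  have : Module.Flat Γ(U, V) Γ(R, W₀) :=
    HasRingHomProperty.appLE (P := @Flat) s inferInstance ⟨V, hV⟩ ⟨W₀, hW₀⟩ hWs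
  have hgen : Algebra.adjoin Γ(U, V) (Set.range fun b : Γ(U, V) => (1 : Γ(U, V)) ⊗ₜ[Γ(S, A₀)] b) = ⊤ := by
    rw [eq_top_iff]
    intro x hx'
    clear hx'
    induction x with
    | zero => exact zero_mem _
    | add x y hx hy => exact add_mem hx hy
    | tmul a b =>
      have : a ⊗ₜ[Γ(S, A₀)] b = algebraMap Γ(U, V) (Γ(U, V) ⊗[Γ(S, A₀)] Γ(U, V)) a * (1 ⊗ₜ b) := by
        simp [Algebra.TensorProduct.algebraMap_apply]
      rw [this]
      exact mul_mem (Subalgebra.algebraMap_mem _ _) (Algebra.subset_adjoin ⟨b, rfl⟩)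
  have hfu : Algebra.QuasiFinite (Γ(U, V) ⊗[Γ(S, A₀)] Γ(U, V)) Γ(R, W₀) := by
    have hA : Spec.map (CommRingCat.ofHom (algebraMap Γ(S, A₀) Γ(U, V))) ≫ hA₀.fromSpec =
        hV.fromSpec ≫ π := IsAffineOpen.SpecMap_appLE_fromSpec π hA₀ hV hVA'
    let c := (pullbackSpecIso Γ(S, A₀) Γ(U, V) Γ(U, V)).inv ≫
      pullback.map _ _ π π hV.fromSpec hV.fromSpec hA₀.fromSpec hA hA
    have e : Spec.map (CommRingCat.ofHom σ) ≫ c = hW₀.fromSpec ≫ pullback.lift s t h := by
      apply pullback.hom_ext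
      · simp only [c, Category.assoc, pullback.lift_fst, pullback.lift_fst_assoc,
          pullbackSpecIso_inv_fst_assoc, ← Spec.map_comp_assoc, ← CommRingCat.ofHom_comp, hσl]
        exact IsAffineOpen.SpecMap_appLE_fromSpec s hV hW₀ hWs
      · simp only [c, Category.assoc, pullback.lift_snd, pullback.lift_snd_assoc,
          pullbackSpecIso_inv_snd_assoc, ← Spec.map_comp_assoc, ← CommRingCat.ofHom_comp]
        erw [hσr]
        exact IsAffineOpen.SpecMap_appLE_fromSpec t hV hW₀ hWt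
    have : LocallyQuasiFinite (Spec.map (CommRingCat.ofHom σ) ≫ c) := by
      rw [e]
      have := hu
      infer_instance
    have := LocallyQuasiFinite.of_comp (Spec.map (CommRingCat.ofHom σ)) c
    exact RingHom.quasiFinite_algebraMap.1 ((HasRingHomProperty.Spec_iff (P := @LocallyQuasiFinite)).1 this)
  let μ : MvPolynomial Γ(U, V) Γ(U, V) →ₐ[Γ(U, V)] Γ(U, V) ⊗[Γ(S, A₀)] Γ(U, V) :=
    MvPolynomial.aeval fun b => (1 : Γ(U, V)) ⊗ₜ[Γ(S, A₀)] b
  have hμ : Function.Surjective μ := fun z => by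
    have : z ∈ Algebra.adjoin Γ(U, V) (Set.range fun b : Γ(U, V) => (1 : Γ(U, V)) ⊗ₜ[Γ(S, A₀)] b) := hgen ▸ Algebra.mem_top
    rwa [Algebra.adjoin_range_eq_range_aeval] at this
  have hx : (MvPolynomial.aeval (R := Γ(U, V)) fun b => φt.hom b).toRingHom.QuasiFinite := by
    have e : (MvPolynomial.aeval (R := Γ(U, V)) fun b => φt.hom b).toRingHom = σ.comp μ.toRingHom := by
      refine MvPolynomial.ringHom_ext (fun r => ?_) fun b => ?_
      · simp [μ, σ]
        rfl
      · simp [μ]
        exact (RingHom.congr_fun hσr b).symm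
    rw [e]
    exact RingHom.QuasiFinite.comp (RingHom.quasiFinite_algebraMap.2 hfu)
      (RingHom.QuasiFinite.of_finite (RingHom.Finite.of_surjective _ hμ))
  let p := (hV.primeIdealOf ⟨s r, hmV⟩)
  have hpr : Spec.map φs (hW₀.primeIdealOf ⟨r, hmW⟩) = p := by
    apply hV.fromSpec.isOpenEmbedding.injective
    rw [← Scheme.Hom.comp_apply, IsAffineOpen.SpecMap_appLE_fromSpec s hV hW₀ hWs,
      Scheme.Hom.comp_apply, hW₀.fromSpec_primeIdealOf, hV.fromSpec_primeIdealOf]
  obtain ⟨κ, hκ, a, q, hqp, hq, hflat, hqf⟩ := SliceLqf.exists_flat_quasiFinite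
    (fun b : Γ(U, V) => φt.hom b) hx p.asIdeal
    ⟨(hW₀.primeIdealOf ⟨r, hmW⟩).asIdeal, inferInstance, congrArg PrimeSpectrum.asIdeal hpr⟩
  let b : κ → Γ(U, V) := a
  let θ : CommRingCat.of (MvPolynomial κ Γ(U, V)) ⟶ Γ(R, W₀) :=
    CommRingCat.ofHom (MvPolynomial.aeval (R := Γ(U, V)) fun i => φt.hom (b i)).toRingHom
  let w : Spec Γ(R, W₀) := ⟨q, hqp⟩
  have hgood : Good (Spec.map θ) w := good_Spec_map θ w hflat hqf
  let P : CommRingCat.of (MvPolynomial κ (ULift.{u} ℤ)) ⟶ Γ(U, V) := CommRingCat.ofHom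
    (MvPolynomial.eval₂Hom ((algebraMap ℤ Γ(U, V)).comp ULift.ringEquiv.toRingHom) b)
  have : IsOpenImmersion (AffineSpace.map κ hV.fromSpec) :=
    MorphismProperty.of_isPullback (P := @IsOpenImmersion) (AffineSpace.isPullback_map hV.fromSpec).flip
      inferInstance
  let M := (AffineSpace.SpecIso κ Γ(U, V)).inv ≫ AffineSpace.map κ hV.fromSpec
  let tV : Spec Γ(R, W₀) ⟶ V.toScheme := Spec.map φt ≫ hV.isoSpec.inv
  refine ⟨κ, hκ, V, hV.isoSpec.hom ≫ Spec.map P, _, hW₀.fromSpec, tV, Spec.map θ ≫ M, w,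
    inferInstance, ?_, ?_, ?_, good_comp_isOpenImmersion hgood M, ?_⟩
  · simp only [tV, Category.assoc, IsAffineOpen.isoSpec_inv_ι]
    exact IsAffineOpen.SpecMap_appLE_fromSpec t hV hW₀ hWt
  · simp only [M, Category.assoc, AffineSpace.map_over, AffineSpace.SpecIso_inv_over_assoc]
    rw [← Spec.map_comp_assoc]
    have : CommRingCat.ofHom (MvPolynomial.C (σ := κ)) ≫ θ = φs :=
      CommRingCat.hom_ext (RingHom.ext fun z => MvPolynomial.aeval_C _ z)
    rw [this]
    exact IsAffineOpen.SpecMap_appLE_fromSpec s hV hW₀ hWs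
  · rw [show tV ≫ hV.isoSpec.hom ≫ Spec.map P = Spec.map (P ≫ φt) by
      simp [tV, Spec.map_comp]]
    apply (AffineSpace.toSpecMvPolyIntEquiv κ).injective
    ext j
    rw [AffineSpace.toSpecMvPolyIntEquiv_comp]
    change (Spec.map θ ≫ M).appTop (AffineSpace.coord U j) =
      (Spec.map (P ≫ φt)).appTop ((Scheme.ΓSpecIso _).inv (.X j))
    conv_rhs => rw [← CommRingCat.comp_apply, ← Scheme.ΓSpecIso_inv_naturality, CommRingCat.comp_apply]
    simp only [M, Scheme.Hom.comp_appTop, CommRingCat.comp_apply, AffineSpace.map_appTop_coord,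
      AffineSpace.SpecIso_inv_appTop_coord]
    rw [← CommRingCat.comp_apply, ← Scheme.ΓSpecIso_inv_naturality, CommRingCat.comp_apply]
    congr 1
    change MvPolynomial.aeval _ (MvPolynomial.X j) = φt (MvPolynomial.eval₂ _ b (MvPolynomial.X j))
    rw [MvPolynomial.aeval_X, MvPolynomial.eval₂_X]
  · have hw : Spec.map φs w = p := PrimeSpectrum.ext hq
    rw [← Scheme.Hom.comp_apply, ← IsAffineOpen.SpecMap_appLE_fromSpec s hV hW₀ hWs,
      Scheme.Hom.comp_apply, hw, hV.fromSpec_primeIdealOf]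

/-- A slice: after restricting along some `g : U' ⟶ U`, the map through `s` is flat and quasi-finite
at some point over `s r`. -/
theorem exists_slice {R U S : Scheme.{u}} (π : U ⟶ S) (s t : R ⟶ U) (h : s ≫ π = t ≫ π)
    [Flat s] [LocallyOfFinitePresentation s] (hu : LocallyQuasiFinite (pullback.lift s t h)) (r : R)
    (hr : s r = t r) :
    ∃ (U' : Scheme.{u}) (g : U' ⟶ U) (_ : LocallyOfFinitePresentation g) (x : ↥(pullback g t)),
      Good (pullback.snd g t ≫ s) x ∧ (pullback.snd g t ≫ s) x = s r := by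
  obtain ⟨κ, hκ, V, F, W, i, tV, G, w, hi, htV, hGs, hGt, hgood, hw⟩ := exists_coords π s t h hu r hr
  have : LocallyOfFinitePresentation (G ≫ (AffineSpace κ U ↘ U)) := by rw [hGs]; infer_instance
  have := Flat55.FibreTransfer.locallyOfFinitePresentation_of_comp this inferInstance
  let Ω := locus G
  have := flat_of_le_good G Ω fun _ hx => hx
  have := lqf_of_le_good G Ω fun _ hx => hx
  let O : (AffineSpace κ U).Opens := ⟨Set.range (Ω.ι ≫ G), (Ω.ι ≫ G).isOpenMap.isOpen_range⟩
  obtain ⟨B, Gm, o', hB, ⟨w', hw'⟩, hover, ⟨b, hb⟩⟩ :=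
    Slicing.Rational.exists_etale_point O (G w) ⟨⟨w, hgood⟩, rfl⟩
  have : LocallyOfFinitePresentation Gm := by
    have := locallyOfFiniteType_terminal_from_mvPoly (κ := κ)
    have hc : Gm ≫ terminal.from _ = terminal.from _ := terminal.hom_ext _ _
    exact Flat55.FibreTransfer.locallyOfFinitePresentation_of_comp
      (g := terminal.from (Spec (CommRingCat.of (MvPolynomial κ (ULift.{u} ℤ)))))
      (by rw [hc]; infer_instance) this
  let g := pullback.fst F Gm ≫ V.ι
  let q := pullback.fst (AffineSpace.toSpecMvPoly κ U) Gm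
  let Z := pullback (Ω.ι ≫ G) q
  -- `U × Spec B ⟶ U` is flat and quasi-finite
  have hY : IsPullback (q ≫ (AffineSpace κ U ↘ U)) (pullback.snd (AffineSpace.toSpecMvPoly κ U) Gm)
      (terminal.from U) (terminal.from (Spec B)) := by
    have h1 : IsPullback (AffineSpace κ U ↘ U) (AffineSpace.toSpecMvPoly κ U) (terminal.from U)
        (terminal.from _) := IsPullback.of_hasPullback _ _
    have h2 := (IsPullback.of_hasPullback (AffineSpace.toSpecMvPoly κ U) Gm).flip.paste_vert h1.flip
    rw [terminal.hom_ext (Gm ≫ terminal.from _) (terminal.from (Spec B))] at h2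
    exact h2.flip
  have hlqf : LocallyQuasiFinite (terminal.from (Spec B)) :=
    SourceDescent.Scheme.locallyQuasiFinite_of_etale _
  have : LocallyQuasiFinite (q ≫ (AffineSpace κ U ↘ U)) := MorphismProperty.of_isPullback hY.flip hlqf
  have : Flat (q ≫ (AffineSpace κ U ↘ U)) :=
    MorphismProperty.of_isPullback hY.flip (inferInstance : Flat (terminal.from (Spec B)))
  -- `Z` is an open piece of the slice
  let z₁ : Z ⟶ W := pullback.fst (Ω.ι ≫ G) q ≫ Ω.ι
  have hm : (z₁ ≫ tV) ≫ F =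
      (pullback.snd (Ω.ι ≫ G) q ≫ pullback.snd (AffineSpace.toSpecMvPoly κ U) Gm) ≫ Gm := by
    simp only [z₁, Category.assoc, ← hGt]
    rw [reassoc_of% pullback.condition (f := Ω.ι ≫ G) (g := q)]
    simp [q, pullback.condition]
  let m : Z ⟶ pullback F Gm := pullback.lift _ _ hm
  have sqa : IsPullback m (pullback.fst (Ω.ι ≫ G) q) (pullback.fst F Gm) (Ω.ι ≫ tV) := by
    refine IsPullback.of_right ?_ ?_ (IsPullback.of_hasPullback F Gm).flip
    · rw [pullback.lift_snd, Category.assoc, ← hGt, ← Category.assoc]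
      exact (IsPullback.of_hasPullback (Ω.ι ≫ G) q).flip.paste_horiz
        (IsPullback.of_hasPullback (AffineSpace.toSpecMvPoly κ U) Gm).flip
    · simp [m, z₁]
  have sqb : IsPullback m (pullback.fst (Ω.ι ≫ G) q) g (Ω.ι ≫ i ≫ t) := by
    have := isPullback_comp_mono sqa V.ι
    simpa [g, Category.assoc, htV] using this
  let k : Z ⟶ pullback g t :=
    pullback.lift m (pullback.fst (Ω.ι ≫ G) q ≫ Ω.ι ≫ i) (by simpa [Category.assoc] using sqb.w)
  have sqk : IsPullback k (pullback.fst (Ω.ι ≫ G) q) (pullback.snd g t) (Ω.ι ≫ i) := by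
    refine IsPullback.of_right ?_ (pullback.lift_snd _ _ _) (IsPullback.of_hasPullback g t)
    rw [pullback.lift_fst, Category.assoc]
    exact sqb
  have : IsOpenImmersion k := MorphismProperty.of_isPullback sqk.flip
    (inferInstance : IsOpenImmersion (Ω.ι ≫ i))
  have hk : k ≫ pullback.snd g t ≫ s = pullback.snd (Ω.ι ≫ G) q ≫ q ≫ (AffineSpace κ U ↘ U) := by
    rw [pullback.lift_snd_assoc, ← pullback.condition_assoc]
    simp [hGs]
  obtain ⟨y, hy, -⟩ := Scheme.Pullback.exists_preimage_pullback o' b hb.symm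
  obtain ⟨z, -, hzy⟩ := Scheme.Pullback.exists_preimage_pullback w' y (hw'.trans hy.symm)
  refine ⟨_, g, inferInstance, k z, ?_, ?_⟩
  · rw [← good_comp_iff_of_isOpenImmersion, hk]
    exact good_of _ _
  · rw [← Scheme.Hom.comp_apply, hk]
    simp only [Scheme.Hom.comp_apply, hzy]
    rw [show pullback.snd (Ω.ι ≫ G) q z = y from hzy, show q y = o' from hy, hover, ← Scheme.Hom.comp_apply, hGs, Scheme.Hom.comp_apply, hw]

end Groth.Agent.Lib.Bootstrap.SliceLqf
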