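import Mathlib.CategoryTheory.Monoidal.Cartesian.Over
import Mathlib.CategoryTheory.Monoidal.Cartesian.Grp
import Groth.Agent.Lib.Bootstrap.SpQuot

/-!
# Bootstrapping: quotients of algebraic spaces by free flat lfp group actions
-/

set_option autoImplicit false
set_option linter.style.haveILetI false

universe u

open CategoryTheory CategoryTheory.Limits MonoidalCategory CartesianMonoidalCategory MonObj
  AlgebraicGeometry Opposite
open scoped MonObj

namespace Groth.Agent.Lib.Bootstrap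

open Groth.Agent.Lib.AlgSpace
open AlgSp

variable {S : Scheme.{u}} {B : Sp S} {G X : Over B} [GrpObj G] (a : GAction G X)

theorem one_act_sp {T : Over B} (y : T ⟶ X) : lift (1 : T ⟶ G) y ≫ a.act = y := by
  have h : lift (1 : T ⟶ G) y = lift (toUnit T) y ≫ (η[G] ▷ X) := by
    rw [lift_whiskerRight, Hom.one_def]
  rw [h, Category.assoc, a.one_act, leftUnitor_hom, lift_snd]

theorem mul_act_sp {T : Over B} (g h : T ⟶ G) (y : T ⟶ X) :
    lift (g * h) y ≫ a.act = lift g (lift h y ≫ a.act) ≫ a.act := by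
  have e : lift (g * h) y = lift (lift g h) y ≫ (μ[G] ▷ X) := by
    rw [lift_whiskerRight, Hom.mul_def]
  rw [e, Category.assoc, a.mul_act, lift_lift_associator_hom_assoc, lift_whiskerLeft_assoc]

/-- A free action gives an equivalence relation. -/
theorem isEqvRelSp_action (ha : a.IsFree) : IsEqvRelSp (snd G X).left a.act.left := by
  refine ⟨fun T r r' ht hs => ?_, fun T => ?_⟩
  · have hβ : r' ≫ (G ⊗ X).hom = r ≫ (G ⊗ X).hom := by
      rw [← Over.w (snd G X), ← Category.assoc, ← hs, Category.assoc]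
    let ρ : Over.mk (r ≫ (G ⊗ X).hom) ⟶ G ⊗ X := Over.homMk r rfl
    let ρ' : Over.mk (r ≫ (G ⊗ X).hom) ⟶ G ⊗ X := Over.homMk r' hβ
    have hx : ρ ≫ snd G X = ρ' ≫ snd G X := Over.OverMorphism.ext hs
    have hy : ρ ≫ a.act = ρ' ≫ a.act := Over.OverMorphism.ext ht
    have e : ∀ c : Over.mk (r ≫ (G ⊗ X).hom) ⟶ G ⊗ X, lift (c ≫ fst G X) (c ≫ snd G X) = c :=
      fun c => by rw [← comp_lift, lift_fst_snd, Category.comp_id]
    have h1 : lift (ρ ≫ fst G X) (ρ ≫ snd G X) ≫ a.act =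
        lift (ρ' ≫ fst G X) (ρ ≫ snd G X) ≫ a.act := by
      rw [e ρ, hx, e ρ', hy]
    have h2 : lift ((ρ' ≫ fst G X)⁻¹ * (ρ ≫ fst G X)) (ρ ≫ snd G X) ≫ a.act = ρ ≫ snd G X := by
      rw [mul_act_sp, h1, ← mul_act_sp, inv_mul_cancel, one_act_sp]
    have h3 : (ρ' ≫ fst G X)⁻¹ * (ρ ≫ fst G X) = 1 := by
      rw [ha _ _ _ h2, Hom.one_def]
    have h4 : ρ ≫ fst G X = ρ' ≫ fst G X := (inv_mul_eq_one.1 h3).symm
    exact congrArg (·.left) ((e ρ).symm.trans ((congrArg₂ lift h4 hx).trans (e ρ')))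
  · refine ⟨fun x => ?_, ?_, ?_⟩
    · let ξ : Over.mk (x ≫ X.hom) ⟶ X := Over.homMk x rfl
      exact ⟨(lift 1 ξ).left, congrArg (·.left) (one_act_sp a ξ),
        congrArg (·.left) (lift_snd (1 : _ ⟶ G) ξ)⟩
    · rintro _ _ ⟨r, rfl, rfl⟩
      let ρ : Over.mk (r ≫ (G ⊗ X).hom) ⟶ G ⊗ X := Over.homMk r rfl
      let c := lift (ρ ≫ fst G X)⁻¹ (ρ ≫ a.act)
      have hc : c ≫ a.act = ρ ≫ snd G X := by
        have e : lift (ρ ≫ fst G X) (ρ ≫ snd G X) = ρ := by
          rw [← comp_lift, lift_fst_snd, Category.comp_id]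
        have h2 := mul_act_sp a (ρ ≫ fst G X)⁻¹ (ρ ≫ fst G X) (ρ ≫ snd G X)
        rw [inv_mul_cancel, one_act_sp, e] at h2
        exact h2.symm
      exact ⟨c.left, congrArg (·.left) hc, congrArg (·.left) (lift_snd _ (ρ ≫ a.act))⟩
    · rintro _ _ _ ⟨r, rfl, rfl⟩ ⟨r', h, rfl⟩
      have hβ : r' ≫ (G ⊗ X).hom = r ≫ (G ⊗ X).hom := by
        rw [← Over.w a.act, ← Category.assoc, h, Category.assoc, Over.w, Over.w]
      let ρ : Over.mk (r ≫ (G ⊗ X).hom) ⟶ G ⊗ X := Over.homMk r rfl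
      let ρ' : Over.mk (r ≫ (G ⊗ X).hom) ⟶ G ⊗ X := Over.homMk r' hβ
      have h' : ρ' ≫ a.act = ρ ≫ snd G X := Over.OverMorphism.ext h
      have e : ∀ c : Over.mk (r ≫ (G ⊗ X).hom) ⟶ G ⊗ X, lift (c ≫ fst G X) (c ≫ snd G X) = c :=
        fun c => by rw [← comp_lift, lift_fst_snd, Category.comp_id]
      refine ⟨(lift ((ρ ≫ fst G X) * (ρ' ≫ fst G X)) (ρ' ≫ snd G X)).left, congrArg (·.left)
        (?_ : _ ≫ a.act = ρ ≫ a.act), congrArg (·.left) (lift_snd _ (ρ' ≫ snd G X))⟩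
      rw [mul_act_sp, e ρ', h', e ρ]

/-- Quotients by free flat lfp actions. -/
theorem quot_action (hG : IsAlgSpace G.left) (hX : IsAlgSpace X.left) (hB : IsAlgSpace B)
    (ha : a.IsFree) (hfl : LocP @Flat G.hom ∧ LocP @LocallyOfFinitePresentation G.hom) :
    IsAlgSpace a.quot ∧
      (IsSurjectiveMor a.quotπ ∧ LocP @Flat a.quotπ ∧ LocP @LocallyOfFinitePresentation a.quotπ) ∧
      IsIso (pullback.lift a.act.left (snd G X).left
        (quotSp_condition (snd G X).left a.act.left).symm :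
          (G ⊗ X).left ⟶ pullback a.quotπ a.quotπ) := by
  have sq : IsPullback (fst G X).left (snd G X).left G.hom X.hom :=
    IsPullback.of_hasPullback G.hom X.hom
  have hR : IsAlgSpace (G ⊗ X).left := isAlgSpace_of_isPullback sq hB.diag hG hX
  have hs : LocP @Flat (snd G X).left ∧ LocP @LocallyOfFinitePresentation (snd G X).left :=
    ⟨AlgSpMor.LocP.locP_of_isPullback SourceDescent.Scheme.flat hG hB hX sq hfl.1,
      AlgSpMor.LocP.locP_of_isPullback SourceDescent.Scheme.locallyOfFinitePresentation hG hB hX sq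
        hfl.2⟩
  have hj := isEqvRelSp_action a ha
  obtain ⟨_, _, _, _, _, -, -, -, -, -, hker, -, halg⟩ := exists_quotSp_data hR hX hj hs
  refine ⟨halg, quotSpπ_fppf hR hX hj hs, ?_⟩
  change IsIso (pullback.lift (f := quotSpπ (snd G X).left a.act.left)
    (g := quotSpπ (snd G X).left a.act.left) a.act.left (snd G X).left
    (quotSp_condition (snd G X).left a.act.left).symm)
  rw [show pullback.lift (f := quotSpπ (snd G X).left a.act.left)
    (g := quotSpπ (snd G X).left a.act.left) a.act.left (snd G X).left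
    (quotSp_condition (snd G X).left a.act.left).symm = hker.isoPullback.hom from
    pullback.hom_ext ((pullback.lift_fst _ _ _).trans hker.isoPullback_hom_fst.symm)
      ((pullback.lift_snd _ _ _).trans hker.isoPullback_hom_snd.symm)]
  infer_instance

end Groth.Agent.Lib.Bootstrap
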